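import Groth.Agent.H15Site.CohColim.Free
import Groth.Agent.H15Site.ToposFin.Alg
import Groth.Agent.H15Site.ToposFin.Present

/-!
# Classes of objects of a topos on whose cohomology filtered colimits commute
-/

set_option autoImplicit false
set_option linter.style.haveILetI false
set_option linter.unusedSectionVars false
set_option backward.isDefEq.respectTransparency false
set_option backward.isDefEq.respectTransparency.types false

universe u

open CategoryTheory CategoryTheory.Limits CategoryTheory.Abelian Opposite
open scoped Simplicial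

namespace Groth.Agent.H15Site.CohColim

attribute [local instance 10000] SiteInst.hasSheafifySite SiteInst.hasWeakSheafifySite SiteInst.hasExtSite

open ToposFin

variable {C : Type u} [SmallCategory C] {J : GrothendieckTopology C} {P : Sh J → Prop}

/-- A class stable under isomorphisms and fibre products over members. -/
structure PullbackClosed (P : Sh J → Prop) : Prop where
  iso : ∀ {K L : Sh J}, (K ≅ L) → P K → P L
  pb : ∀ {K L M : Sh J} (f : K ⟶ M) (g : L ⟶ M), P K → P L → P M → P (pullback f g)

/-- Splitting the first factor off a wide fibre product. -/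
noncomputable def wideSplit {K' K : Sh J} (f : K' ⟶ K) (n : ℕ) :
    widePullback K (fun _ : Fin (n + 1 + 1) => K') (fun _ => f) ≅
      pullback f (WidePullback.base (fun _ : Fin (n + 1) => f)) where
  hom := pullback.lift (WidePullback.π _ 0)
    (WidePullback.lift (WidePullback.base _) (fun i => WidePullback.π _ i.succ) (fun i => WidePullback.π_arrow _ _))
    (by rw [WidePullback.lift_base, WidePullback.π_arrow])
  inv := WidePullback.lift (pullback.fst _ _ ≫ f)
    (Fin.cases (pullback.fst _ _) fun i => pullback.snd _ _ ≫ WidePullback.π _ i) (by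
      intro i
      cases i using Fin.cases with
      | zero => simp only [Fin.cases_zero]
      | succ i =>
        simp only [Fin.cases_succ, Category.assoc, WidePullback.π_arrow]
        exact pullback.condition.symm)
  hom_inv_id := by
    refine WidePullback.hom_ext _ _ _ (fun i => ?_) ?_
    · rw [Category.assoc, WidePullback.lift_π, Category.id_comp]
      cases i using Fin.cases with
      | zero => simp
      | succ i => simp
    · simp
  inv_hom_id := by
    apply pullback.hom_ext
    · simp
    · refine WidePullback.hom_ext _ _ _ (fun i => ?_) ?_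
      · simp
      · simp [pullback.condition]

theorem PullbackClosed.nerve (hP : PullbackClosed P) {K' K : Sh J} (f : K' ⟶ K) (h' : P K') (h : P K) :
    ∀ n : ℕ, P ((Arrow.mk f).cechNerve.obj (op ⦋n⦌)) := by
  intro n
  show P (widePullback K (fun _ : Fin (n + 1) => K') fun _ => f)
  induction n with
  | zero =>
    refine hP.iso ⟨WidePullback.lift f (fun _ => 𝟙 K') (fun _ => Category.id_comp f),
      WidePullback.π (fun _ : Fin 1 => f) 0, WidePullback.lift_π _ _ _ _ _, ?_⟩ h'
    refine WidePullback.hom_ext _ _ _ (fun i => ?_) ?_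
    · rw [Category.assoc, WidePullback.lift_π, Category.comp_id, Category.id_comp, (Fin.fin_one_eq_zero i : i = 0)]
    · rw [Category.assoc, WidePullback.lift_base, WidePullback.π_arrow, Category.id_comp]
  | succ n ih => exact hP.iso (wideSplit f n).symm (hP.pb f _ h' ih h)

theorem PullbackClosed.setRefinable (hP : PullbackClosed P)
    (h : ∀ (L : Sh J), P L → ∀ (F : Sh J) (p : F ⟶ L), Epi p →
      ∃ (L' : Sh J) (s : L' ⟶ F), P L' ∧ Epi (s ≫ p)) : SetRefinable P P := fun L hL F p hp => by
  obtain ⟨L', s, hL', hs⟩ := h L hL F p hp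
  exact ⟨L', s, hs, hP.nerve (s ≫ p) hL' hL⟩

theorem both_HK (hP : PullbackClosed P)
    (h : ∀ (L : Sh J), P L → ∀ (F : Sh J) (p : F ⟶ L), Epi p →
      ∃ (L' : Sh J) (s : L' ⟶ F), P L' ∧ Epi (s ≫ p))
    (hc : ∀ K, P K → Comm K) (K : Sh J) (hK : P K) (q : ℕ) : Both ((freeAb J).obj K) q :=
  both (T := freeClass P) (comm₀_freeClass hc)
    (injColimAcyclic_of_refinable (comm₀_freeClass hc) (refinable_free (hP.setRefinable h))) _ ⟨K, hK, rfl⟩ q

/-! ### Coherent objects of an algebraic topos -/

theorem hasQCGenerators_of_algebraic (hE : IsAlgebraic J) : HasQCGenerators J := by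
  obtain ⟨S, hqc, hgen, -, -⟩ := hE
  exact TFin.hasQCGenerators_of_set hqc hgen

theorem comm_of_coherent (hE : HasQCGenerators J) {K : Sh J} (hK : IsCoherent K) : Comm K :=
  fun _ _ hc => ⟨fun g => TFin.hom_colimit_surj hE hK hc g, fun _ a b h => TFin.hom_colimit_inj hK.1 hc a b h⟩

theorem pullbackClosed_coherent (hE : IsAlgebraic J) : PullbackClosed (IsCoherent (J := J)) where
  iso e h := TFin.isCoherent_of_iso e h
  pb {K L M} f g hK hL hM :=
    ⟨hM.2 K L f g hK.1 hL.1, TFin.isQS_of_isQSHom (pullback.fst f g)
      (TFin.isQSHom_baseChange' (IsPullback.of_hasPullback f g) (TFin.Alg.isQSHom_of_isQS hE g hL.2)) hK.2⟩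

theorem refine_coherent (hE : IsAlgebraic J) (L : Sh J) (hL : IsCoherent L) (F : Sh J) (p : F ⟶ L) (hp : Epi p) :
    ∃ (L' : Sh J) (s : L' ⟶ F), IsCoherent L' ∧ Epi (s ≫ p) := by
  obtain ⟨S, hqc, hgen, hpb, -⟩ := hE
  haveI := hp
  obtain ⟨ι, G, π, hG, hπ⟩ := TFin.exists_cover_mem hgen F
  have hπp : TFin.JEpi (fun i => π i ≫ p) := fun Z a b h =>
    (cancel_epi p).1 (hπ _ _ fun i => by simpa using h i)
  obtain ⟨s, hs⟩ := TFin.isQC_iff.1 hL.1 _ _ _ hπp
  refine ⟨∐ fun i : s => G i.1, Sigma.desc fun i : s => π i.1, TFin.isCoherent_cofan (coproductIsCoproduct _)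
    fun i => TFin.isCoherent_of_mem hqc hgen hpb (hG i.1), ⟨fun a b h => hs a b fun i => ?_⟩⟩
  have := congrArg (Sigma.ι (fun i : s => G i.1) i ≫ ·) h
  simpa using this

theorem both_HK_coherent (hE : IsAlgebraic J) (K : Sh J) (hK : IsCoherent K) (q : ℕ) :
    Both ((freeAb J).obj K) q :=
  both_HK (pullbackClosed_coherent hE) (refine_coherent hE)
    (fun _ h => comm_of_coherent (hasQCGenerators_of_algebraic hE) h) K hK q

end Groth.Agent.H15Site.CohColim
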