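import Groth.Agent.H15Site.CohColim.Main

/-!
# Commutation of `Ext` with filtered colimits passes to cokernels
-/

set_option autoImplicit false
set_option linter.style.haveILetI false
set_option linter.unusedSectionVars false

universe u

open CategoryTheory CategoryTheory.Limits CategoryTheory.Abelian

namespace Groth.Agent.H15Site.CohColim

variable {A : Type (u + 1)} [Category.{u} A] [Abelian A] [IsGrothendieckAbelian.{u} A] [HasExt.{u} A]

/-- The class pulled back along `f`. -/
noncomputable abbrev pre {L L' F : A} (f : L' ⟶ L) {n : ℕ} (x : Ext.{u} L F n) : Ext.{u} L' F n :=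
  (Ext.mk₀ f).comp x (zero_add n)

theorem push_pre {L L' F G : A} (f : L' ⟶ L) (g : F ⟶ G) {n : ℕ} (x : Ext.{u} L F n) :
    push g (pre f x) = pre f (push g x) :=
  Ext.comp_assoc_of_third_deg_zero _ _ _ _

theorem pre_sub {L L' F : A} (f : L' ⟶ L) {n : ℕ} (x y : Ext.{u} L F n) :
    pre f (x - y) = pre f x - pre f y :=
  map_sub ((Ext.mk₀ f).precomp F (zero_add n)) x y

theorem pre_zero {L L' F : A} (f : L' ⟶ L) {n : ℕ} : pre f (0 : Ext.{u} L F n) = 0 :=
  map_zero ((Ext.mk₀ f).precomp F (zero_add n))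

theorem comp_pre_zero {S : ShortComplex A} (hS : S.ShortExact) {F : A} {n m : ℕ} (h : 1 + n = m)
    (v : Ext.{u} S.X₂ F n) : hS.extClass.comp (pre S.f v) h = 0 := by
  rw [pre, ← Ext.comp_assoc _ _ _ (add_zero 1) (zero_add n) (by omega), hS.extClass_comp, Ext.zero_comp]

theorem pre_injective_zero {S : ShortComplex A} (hS : S.ShortExact) {F : A} (x : Ext.{u} S.X₃ F 0)
    (h : pre S.g x = 0) : x = 0 := by
  obtain ⟨f, rfl⟩ := (Ext.mk₀_bijective S.X₃ F).2 x
  haveI := hS.epi_g
  rw [pre, Ext.mk₀_comp_mk₀] at h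
  have : S.g ≫ f = 0 := (Ext.mk₀_bijective _ _).1 (h.trans (Ext.mk₀_zero _ _).symm)
  rw [(cancel_epi S.g).1 (this.trans comp_zero.symm), Ext.mk₀_zero]

theorem both_cokernel {S : ShortComplex A} (hS : S.ShortExact) (h₁ : ∀ q, Both S.X₁ q) (h₂ : ∀ q, Both S.X₂ q)
    (q : ℕ) : Both S.X₃ q := by
  intro Λ _ _ D c hc
  refine ⟨fun x => ?_, fun i z hz => ?_⟩
  · obtain ⟨i, y, hy⟩ := (h₂ q D c hc).1 (pre S.g x)
    obtain ⟨j, k, hk⟩ := (h₁ q D c hc).2 i (pre S.f y) (by
      rw [push_pre, hy, pre, pre, Ext.mk₀_comp_mk₀_assoc, S.zero, Ext.mk₀_zero, Ext.zero_comp])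
    obtain ⟨z, hz⟩ := Ext.contravariant_sequence_exact₂ hS _ (push (D.map k) y)
      (show pre S.f (push (D.map k) y) = 0 by rw [← push_pre]; exact hk)
    have h0 : pre S.g (x - push (G := c.pt) (c.ι.app j) z) = 0 := by
      rw [pre_sub, sub_eq_zero, ← push_pre, show pre S.g z = push (D.map k) y from hz, push_push, c.w, hy]
    cases q with
    | zero => exact ⟨j, z, (sub_eq_zero.1 (pre_injective_zero hS _ h0)).symm⟩
    | succ q =>
      obtain ⟨w, hw⟩ := Ext.contravariant_sequence_exact₃ hS _ _ h0 (n₀ := q) (by omega)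
      obtain ⟨i', w', hw'⟩ := (h₁ q D c hc).1 w
      obtain ⟨l, a, b, -⟩ := IsFilteredOrEmpty.cocone_objs j i'
      refine ⟨l, push (D.map a) z + hS.extClass.comp (push (D.map b) w') (by omega), ?_⟩
      rw [show push (c.ι.app l) (push (D.map a) z + hS.extClass.comp (push (D.map b) w') (by omega)) =
        push (c.ι.app l) (push (D.map a) z) + push (c.ι.app l) (hS.extClass.comp (push (D.map b) w') (by omega))
        from Ext.add_comp _ _ _ _, push_push, c.w]
      have : push (c.ι.app l) (hS.extClass.comp (push (D.map b) w') (show 1 + q = q + 1 by omega)) =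
          hS.extClass.comp w (show 1 + q = q + 1 by omega) := by
        rw [push, Ext.comp_assoc_of_third_deg_zero]
        exact congrArg (fun t => hS.extClass.comp t _) ((push_push _ _ _).trans
          ((congrArg (fun m => push m w') (c.w b)).trans hw'))
      rw [this, hw, add_sub_cancel]
  · obtain ⟨j, k, hk⟩ := (h₂ q D c hc).2 i (pre S.g z) (by rw [push_pre, hz, pre_zero])
    rw [push_pre] at hk
    cases q with
    | zero => exact ⟨j, k, pre_injective_zero hS _ hk⟩
    | succ q =>
      obtain ⟨w, hw⟩ := Ext.contravariant_sequence_exact₃ hS _ _ hk (n₀ := q) (by omega)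
      have h0 : hS.extClass.comp (push (c.ι.app j) w) (show 1 + q = q + 1 by omega) = 0 := by
        rw [push, ← Ext.comp_assoc_of_third_deg_zero, hw]
        exact (push_push _ _ _).trans ((congrArg (fun m => push m z) (c.w k)).trans hz)
      obtain ⟨v, hv⟩ := Ext.contravariant_sequence_exact₁ hS c.pt (push (c.ι.app j) w) _ h0
      obtain ⟨i', v', hv'⟩ := (h₂ q D c hc).1 v
      obtain ⟨l, a, b, -⟩ := IsFilteredOrEmpty.cocone_objs j i'
      obtain ⟨m, d, hd⟩ := (h₁ q D c hc).2 l (push (D.map a) w - pre S.f (push (D.map b) v')) (by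
        rw [push_sub, sub_eq_zero, push_push, push_pre, push_push, c.w, c.w, hv']
        exact hv.symm)
      rw [push_sub, sub_eq_zero, push_push, push_pre, ← D.map_comp] at hd
      refine ⟨m, k ≫ a ≫ d, ?_⟩
      rw [D.map_comp, ← push_push, ← hw, push, Ext.comp_assoc_of_third_deg_zero]
      exact (congrArg (fun t => hS.extClass.comp t _) hd).trans (comp_pre_zero hS _ _)

end Groth.Agent.H15Site.CohColim
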