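import Groth.Agent.H15Site.CohColim.Families
import Groth.Prelude.Def_CohSite

/-!
# Applications: generating classes closed under fibre products, and finite coverings of objects of the site
-/

set_option autoImplicit false
set_option linter.style.haveILetI false
set_option linter.unusedSectionVars false
set_option backward.isDefEq.respectTransparency false
set_option backward.isDefEq.respectTransparency.types false

universe u

open CategoryTheory CategoryTheory.Limits CategoryTheory.Abelian Opposite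

namespace Groth.Agent.H15Site.CohColim

attribute [local instance 10000] SiteInst.hasSheafifySite SiteInst.hasWeakSheafifySite SiteInst.hasExtSite

open ToposFin

variable {C : Type u} [SmallCategory C] {J : GrothendieckTopology C}

theorem subsingleton_ext_of_iso {A : Type*} [Category A] [Abelian A] [HasExt.{u} A] {L L' F : A} {q : ℕ}
    (e : L ≅ L') (h : Subsingleton (Ext.{u} L F q)) : Subsingleton (Ext.{u} L' F q) := by
  refine subsingleton_of_forall_eq 0 fun x => ?_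
  rw [← Ext.mk₀_id_comp x, ← e.inv_hom_id, ← Ext.mk₀_comp_mk₀_assoc,
    Subsingleton.elim ((Ext.mk₀ e.hom).comp x (zero_add q)) 0, Ext.comp_zero]

/-! ### Generating classes closed under fibre products -/

/-- The isomorphism closure of `S`. -/
def IsoMem (S : Set (Sh J)) (X : Sh J) : Prop := ∃ K ∈ S, Nonempty (K ≅ X)

theorem pullbackClosed_isoMem {S : Set (Sh J)} (hpb : ClosedUnderPullbacks S) : PullbackClosed (IsoMem S) where
  iso := fun e ⟨K, hK, ⟨e'⟩⟩ => ⟨K, hK, ⟨e' ≪≫ e⟩⟩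
  pb := fun {X Y Z} f g ⟨K, hK, ⟨a⟩⟩ ⟨L, hL, ⟨b⟩⟩ ⟨M, hM, ⟨c⟩⟩ => by
    obtain ⟨P, p, q, hP, sq⟩ := hpb (a.hom ≫ f ≫ c.inv) (b.hom ≫ g ≫ c.inv) hK hL hM
    exact ⟨P, hP, ⟨sq.isoPullback ≪≫ asIso (pullback.map (a.hom ≫ f ≫ c.inv) (b.hom ≫ g ≫ c.inv) f g a.hom b.hom c.hom
      (by simp) (by simp))⟩⟩

theorem famRefinable_isoMem {S : Set (Sh J)} (hqc : ∀ K ∈ S, IsQC K) (hgen : IsGenerating S)
    (hpb : ClosedUnderPullbacks S) : FamRefinable (IsoMem S) := by
  intro L hL F p hp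
  obtain ⟨ι, G, π, hG, hπ⟩ := TFin.exists_cover_mem hgen F
  have hπp : TFin.JEpi (fun i => π i ≫ p) := fun Z a b h =>
    (cancel_epi p).1 (hπ _ _ fun i => by simpa using h i)
  obtain ⟨K, hK, ⟨e⟩⟩ := hL
  obtain ⟨s, hs⟩ := TFin.isQC_iff.1 (TFin.isQC_of_iso e (hqc K hK)) _ _ _ hπp
  exact ⟨s, inferInstance, fun i => G i.1, fun i => π i.1, hs,
    piece_mem (pullbackClosed_isoMem hpb) (fun i : s => π i.1 ≫ p) ⟨K, hK, ⟨e⟩⟩ fun i => ⟨_, hG i.1, ⟨Iso.refl _⟩⟩⟩

theorem subsingleton_colimit_isoMem {S : Set (Sh J)} (hqc : ∀ K ∈ S, IsQC K) (hgen : IsGenerating S)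
    (hpb : ClosedUnderPullbacks S) {Λ : Type u} [SmallCategory Λ] [IsFiltered Λ]
    (D : Λ ⥤ Sheaf J AddCommGrpCat.{u}) (c : Cocone D) (hc : IsColimit c)
    (hD : ∀ (i : Λ) (K : Sh J), K ∈ S → ∀ q : ℕ, Subsingleton (Ext.{u} ((freeAb J).obj K) (D.obj i) (q + 1)))
    (K : Sh J) (hK : K ∈ S) (q : ℕ) : Subsingleton (Ext.{u} ((freeAb J).obj K) c.pt (q + 1)) := by
  have hq : ∀ X, IsoMem S X → IsQC X := fun X ⟨K, hK, ⟨e⟩⟩ => TFin.isQC_of_iso e (hqc K hK)
  have hr := famRefinable_isoMem hqc hgen hpb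
  exact subsingleton_colimit_fam (comm_of_famRefinable hq hr) hr D c hc
    (fun i X ⟨K', hK', ⟨e⟩⟩ n => subsingleton_ext_of_iso ((freeAb J).mapIso e) (hD i K' hK' n)) q K
    ⟨K, hK, ⟨Iso.refl _⟩⟩

/-! ### Finite coverings of objects of the site -/

/-- Sheaves of members of `B`. -/
def EpsMem (B : Set C) (X : Sh J) : Prop := ∃ V ∈ B, Nonempty (eps J V ≅ X)

/-- The wide fibre product underlying a product over `U`. -/
noncomputable def overConeIsLimit {U : C} {n : ℕ} (Z : Fin (n + 1) → Over U) [HasProduct Z] :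
    IsLimit (WidePullbackShape.mkCone (F := WidePullbackShape.wideCospan U (fun k => (Z k).left) fun k => (Z k).hom)
      (∏ᶜ Z).hom (fun k => (Pi.π Z k).left) (fun k => by
        simp [WidePullbackShape.wideCospan])) where
  lift s := (Pi.lift (f := Z) (P := Over.mk (s.π.app none)) fun k => Over.homMk (s.π.app (some k))
    (s.w (WidePullbackShape.Hom.term k))).left
  fac s j := by
    cases j with
    | none => exact Over.w (Pi.lift (f := Z) (P := Over.mk (s.π.app none)) fun k => Over.homMk (s.π.app (some k))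
        (s.w (WidePullbackShape.Hom.term k)))
    | some k => exact congrArg (fun φ => φ.left) (Pi.lift_π (f := Z) (P := Over.mk (s.π.app none)) (fun k => Over.homMk (s.π.app (some k))
        (s.w (WidePullbackShape.Hom.term k))) k)
  uniq s m hm := by
    have : (Over.homMk m (hm none) : Over.mk (s.π.app none) ⟶ ∏ᶜ Z) = Pi.lift fun k => Over.homMk (s.π.app (some k))
        (s.w (WidePullbackShape.Hom.term k)) :=
      Pi.hom_ext _ _ fun k => by
        rw [Pi.lift_π]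
        exact Over.OverMorphism.ext (hm (some k))
    exact congrArg (fun φ : Over.mk (s.π.app none) ⟶ ∏ᶜ Z => φ.left) this

theorem epsMem_piece {B : Set C} {U : C} {n : ℕ} (Z : Fin (n + 1) → Over U) [HasProduct Z]
    (h : (∏ᶜ Z).left ∈ B) {L : Sh J} (e : eps J U ≅ L) :
    EpsMem B (widePullback L (fun k => eps J (Z k).left)
      (fun k => (yoneda ⋙ presheafToSheaf J (Type u)).map (Z k).hom ≫ e.hom)) := by
  let E : C ⥤ Sh J := yoneda ⋙ presheafToSheaf J (Type u)
  haveI : PreservesFiniteLimits (presheafToSheaf J (Type u)) := HasSheafify.isLeftExact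
  let D := WidePullbackShape.wideCospan U (fun k => (Z k).left) fun k => (Z k).hom
  haveI : PreservesLimit D yoneda := inferInstance
  haveI : PreservesLimit (D ⋙ yoneda) (presheafToSheaf J (Type u)) := inferInstance
  haveI : PreservesLimit D E := inferInstanceAs (PreservesLimit D (yoneda ⋙ presheafToSheaf J (Type u)))
  have hl := isLimitOfPreserves E (overConeIsLimit Z)
  let D' := WidePullbackShape.wideCospan L (fun k => eps J (Z k).left) fun k => E.map (Z k).hom ≫ e.hom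
  let α : D ⋙ E ≅ D' := NatIso.ofComponents (fun j => match j with | none => e | some _ => Iso.refl _) (by
    rintro _ _ (_ | k)
    · exact (congrArg (· ≫ _) (E.map_id _)).trans ((Category.id_comp _).trans (Category.comp_id _).symm)
    · exact (Category.id_comp _).symm)
  exact ⟨_, h, ⟨((IsLimit.postcomposeHomEquiv α _).symm hl).conePointUniqueUpToIso (limit.isLimit D')⟩⟩

theorem exists_sections {U : C} {L : Sh J} (e : eps J U ≅ L) {F : Sh J} (p : F ⟶ L) (hp : Epi p) :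
    ∃ T ∈ J U, ∀ ⦃V : C⦄ (g : V ⟶ U), T g →
      ∃ s : eps J V ⟶ F, s ≫ p = (yoneda ⋙ presheafToSheaf J (Type u)).map g ≫ e.hom := by
  haveI := hp
  haveI : Sheaf.IsLocallySurjective p := (Sheaf.isLocallySurjective_iff_epi p).2 inferInstance
  refine ⟨_, Presheaf.imageSieve_mem J p.hom (sheafifyYonedaHomEquiv J U L e.hom), fun V g ⟨y, hy⟩ =>
    ⟨(sheafifyYonedaHomEquiv J V F).symm y, (sheafifyYonedaHomEquiv J V L).injective ?_⟩⟩
  rw [sheafifyYonedaHomEquiv_naturality_right, Equiv.apply_symm_apply]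
  refine hy.trans ?_
  exact (sheafifyYonedaHomEquiv_naturality J g L e.hom).symm

theorem famRefinable_epsMem [HasPullbacks C] (B : Set C) (Cov : ∀ (U : C) (ι : Type u), (ι → Over U) → Prop)
    (h1 : ∀ (U : C) (ι : Type u) (Y : ι → Over U), Cov U ι Y → Finite ι ∧ U ∈ B ∧
      Sieve.ofArrows (fun i => (Y i).left) (fun i => (Y i).hom) ∈ J U ∧
      ∀ (p : ℕ) (a : Fin (p + 1) → ι), (∏ᶜ fun k => Y (a k)).left ∈ B)
    (h2 : ∀ U ∈ B, ∀ T ∈ J U, ∃ (ι : Type u) (Y : ι → Over U), Cov U ι Y ∧ ∀ i, T.arrows (Y i).hom) :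
    FamRefinable (EpsMem (J := J) B) := by
  rintro L ⟨U, hU, ⟨e⟩⟩ F p hp
  obtain ⟨T, hT, hT'⟩ := exists_sections e p hp
  obtain ⟨ι, Y, hY, hYT⟩ := h2 U hU T hT
  obtain ⟨hfin, -, hcov, hprod⟩ := h1 U ι Y hY
  haveI := hfin
  choose s hs using fun i => hT' (Y i).hom (hYT i)
  refine ⟨ι, hfin, fun i => eps J (Y i).left, s, ?_, fun n a => ?_⟩
  · intro Z a b hab
    rw [← cancel_epi e.hom]
    refine (TFin.jEpi_epsMap (fun i => (Y i).hom) hcov) _ _ fun i => ?_
    have := hab i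
    beta_reduce at this
    rw [hs i] at this
    simpa [TFin.epsMap_eq, Category.assoc] using this
  · simp only [hs]
    exact epsMem_piece (fun k => Y (a k)) (hprod n a) e

theorem isQC_epsMem [HasPullbacks C] (B : Set C) (Cov : ∀ (U : C) (ι : Type u), (ι → Over U) → Prop)
    (h1 : ∀ (U : C) (ι : Type u) (Y : ι → Over U), Cov U ι Y → Finite ι ∧ U ∈ B ∧
      Sieve.ofArrows (fun i => (Y i).left) (fun i => (Y i).hom) ∈ J U ∧
      ∀ (p : ℕ) (a : Fin (p + 1) → ι), (∏ᶜ fun k => Y (a k)).left ∈ B)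
    (h2 : ∀ U ∈ B, ∀ T ∈ J U, ∃ (ι : Type u) (Y : ι → Over U), Cov U ι Y ∧ ∀ i, T.arrows (Y i).hom)
    (X : Sh J) (hX : EpsMem B X) : IsQC X := by
  obtain ⟨V, hV, ⟨e⟩⟩ := hX
  refine TFin.isQC_of_iso e ((TFin.isQC_eps_iff V).2 fun T hT => ?_)
  obtain ⟨ι, Y, hY, hYT⟩ := h2 V hV T hT
  obtain ⟨hfin, -, hcov, -⟩ := h1 V ι Y hY
  haveI := hfin
  obtain ⟨n, ⟨en⟩⟩ := Finite.exists_equiv_fin ι
  refine ⟨n, fun k => (Y (en.symm k)).left, fun k => (Y (en.symm k)).hom, fun k => hYT _, J.superset_covering ?_ hcov⟩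
  intro W g hg
  obtain ⟨i, a, rfl⟩ := (Sieve.mem_ofArrows_iff _ _ _).1 hg
  obtain ⟨k, rfl⟩ := en.symm.surjective i
  exact Sieve.downward_closed _
    (Sieve.ofArrows_mk (fun k => (Y (en.symm k)).left) (fun k => (Y (en.symm k)).hom) k) a

theorem both_of_cov [HasPullbacks C] (B : Set C) (Cov : ∀ (U : C) (ι : Type u), (ι → Over U) → Prop)
    (h1 : ∀ (U : C) (ι : Type u) (Y : ι → Over U), Cov U ι Y → Finite ι ∧ U ∈ B ∧
      Sieve.ofArrows (fun i => (Y i).left) (fun i => (Y i).hom) ∈ J U ∧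
      ∀ (p : ℕ) (a : Fin (p + 1) → ι), (∏ᶜ fun k => Y (a k)).left ∈ B)
    (h2 : ∀ U ∈ B, ∀ T ∈ J U, ∃ (ι : Type u) (Y : ι → Over U), Cov U ι Y ∧ ∀ i, T.arrows (Y i).hom)
    (U : C) (hU : U ∈ B) (q : ℕ) : Both (CohCx.freeSheaf J U) q :=
  have hr := famRefinable_epsMem B Cov h1 h2
  Both.of_iso (both_fam (P := EpsMem B) (comm_of_famRefinable (isQC_epsMem B Cov h1 h2) hr) hr (eps J U)
    ⟨U, hU, ⟨Iso.refl _⟩⟩ q) (freeEpsIso J U).symm

end Groth.Agent.H15Site.CohColim
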