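import Groth.Agent.H15Site.CohColim.Classes
import Groth.Agent.H15Site.CohColim.ExtSES
import Mathlib.CategoryTheory.Sites.SheafCohomology.Basic
import Mathlib.GroupTheory.FreeAbelianGroup

/-!
# The free abelian sheaf on the final object and on a representable
-/

set_option autoImplicit false
set_option linter.style.haveILetI false
set_option linter.unusedSectionVars false
set_option backward.isDefEq.respectTransparency false
set_option backward.isDefEq.respectTransparency.types false

universe u

open CategoryTheory CategoryTheory.Limits CategoryTheory.Abelian Opposite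

namespace Groth.Agent.H15Site.CohColim

attribute [local instance 10000] SiteInst.hasSheafifySite SiteInst.hasWeakSheafifySite SiteInst.hasExtSite

open ToposFin

variable {C : Type u} [SmallCategory C] (J : GrothendieckTopology C)

/-- The terminal sheaf is pointwise a point. -/
noncomputable def terminalObjIso : (⊤_ (Sh J)).obj ≅ (Functor.const Cᵒᵖ).obj PUnit.{u + 1} :=
  NatIso.ofComponents (fun X =>
    (IsTerminal.isTerminalObj (sheafToPresheaf J (Type u) ⋙ (evaluation Cᵒᵖ (Type u)).obj X) _
      terminalIsTerminal).uniqueUpToIso Types.isTerminalPUnit) (fun _ => Types.isTerminalPUnit.hom_ext _ _)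

/-- `Z[pt] = Z`. -/
noncomputable def freePUnitIso : AddCommGrpCat.free.{u}.obj PUnit.{u + 1} ≅ AddCommGrpCat.of (ULift.{u} ℤ) :=
  AddEquiv.toAddCommGrpIso (((FreeAbelianGroup.uniqueEquiv (T := PUnit.{u + 1})).trans AddEquiv.ulift.symm :
    FreeAbelianGroup PUnit.{u + 1} ≃+ ULift.{u} ℤ))

/-- `Z[e]` is the constant sheaf `Z`. -/
noncomputable def freeTerminalIso :
    (freeAb J).obj (⊤_ (Sh J)) ≅ (constantSheaf J AddCommGrpCat.{u}).obj (AddCommGrpCat.of (ULift.{u} ℤ)) :=
  (presheafToSheaf J AddCommGrpCat.{u}).mapIso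
    (Functor.isoWhiskerRight (terminalObjIso J) AddCommGrpCat.free.{u} ≪≫
      Functor.constComp _ _ _ ≪≫ (Functor.const Cᵒᵖ).mapIso freePUnitIso)

theorem isIso_freeEps (V : C) : IsIso ((presheafToSheaf J AddCommGrpCat.{u}).map
    (Functor.whiskerRight (CategoryTheory.toSheafify J (yoneda.obj V)) AddCommGrpCat.free.{u})) := by
  have : J.PreservesSheafification AddCommGrpCat.free.{u} :=
    CategoryTheory.Sheaf.preservesSheafification_of_adjunction J AddCommGrpCat.adj
  exact (J.W_iff _).1 (J.W_of_preservesSheafification _ _ (J.W_toSheafify _))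

/-- `Z[h_V]` is the free sheaf on `V`. -/
noncomputable def freeEpsIso (V : C) : CohCx.freeSheaf J V ≅ (freeAb J).obj (eps J V) :=
  @asIso _ _ _ _ _ (isIso_freeEps J V)

/-- Cohomology of the site as an `Ext` functor. -/
noncomputable def functorHIso (q : ℕ) :
    (Sheaf.functorH J q : Sheaf J AddCommGrpCat.{u} ⥤ AddCommGrpCat.{u}) ≅
      (extFunctor.{u} q).obj (op ((constantSheaf J AddCommGrpCat.{u}).obj (AddCommGrpCat.of (ULift.{u} ℤ)))) :=
  NatIso.ofComponents (fun F => Iso.refl _) (fun f => by
    ext x
    exact Sheaf.H.map_apply f x)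

variable {J}

theorem mono_freeAb_map {K L : Sh J} (f : K ⟶ L) [Mono f] : Mono ((freeAb J).map f) := by
  haveI : PreservesFiniteLimits (presheafToSheaf J AddCommGrpCat.{u}) := HasSheafify.isLeftExact
  haveI : Mono (Functor.whiskerRight f.hom AddCommGrpCat.free.{u}) := by
    haveI : Mono f.hom := inferInstanceAs (Mono ((sheafToPresheaf J (Type u)).map f))
    haveI : ∀ X, Mono ((Functor.whiskerRight f.hom AddCommGrpCat.free.{u}).app X) := fun X => by
      refine (AddCommGrpCat.mono_iff_injective _).2 ?_
      have hinj : Function.Injective (f.hom.app X) := (mono_iff_injective _).1 inferInstance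
      rcases isEmpty_or_nonempty (K.obj.obj X) with hK | hK
      · intro a b _
        exact Subsingleton.elim (α := FreeAbelianGroup (K.obj.obj X)) a b
      · obtain ⟨g, hg⟩ := hinj.hasLeftInverse
        refine Function.LeftInverse.injective (g := FreeAbelianGroup.map g) fun a => ?_
        exact ((DFunLike.congr_fun (FreeAbelianGroup.map_comp (g := g) (f := f.hom.app X)) a).symm.trans
          (congrArg (fun φ => FreeAbelianGroup.map φ a) (funext hg))).trans (DFunLike.congr_fun FreeAbelianGroup.map_id a)
    exact NatTrans.mono_of_mono_app _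
  exact inferInstanceAs (Mono ((presheafToSheaf J AddCommGrpCat.{u}).map
    (Functor.whiskerRight f.hom AddCommGrpCat.free.{u})))

theorem both_functorH (hE : IsAlgebraic J) (hT : IsCoherent (⊤_ (Sh J))) (q : ℕ) :
    Both ((constantSheaf J AddCommGrpCat.{u}).obj (AddCommGrpCat.of (ULift.{u} ℤ))) q :=
  Both.of_iso (both_HK_coherent hE _ hT q) (freeTerminalIso J)

theorem both_quotZ (hE : IsAlgebraic J) (hT : IsCoherent (⊤_ (Sh J))) (U : Sh J) [Mono (terminal.from U)]
    (hU : IsCoherent U) (q : ℕ) : Both (quotZ U) q := by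
  haveI := mono_freeAb_map (terminal.from U)
  let S : ShortComplex (Sheaf J AddCommGrpCat.{u}) :=
    ShortComplex.mk _ _ (cokernel.condition ((freeAb J).map (terminal.from U)))
  have hS : S.ShortExact :=
    { exact := ShortComplex.exact_cokernel _, mono_f := inferInstance, epi_g := inferInstance }
  have h₁ : ∀ n, Both S.X₁ n := fun n Λ _ _ D c hc => both_HK_coherent hE U hU n D c hc
  have h₂ : ∀ n, Both S.X₂ n := fun n Λ _ _ D c hc => both_HK_coherent hE (⊤_ (Sh J)) hT n D c hc
  intro Λ _ _ D c hc
  exact both_cokernel hS h₁ h₂ q D c hc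

theorem both_freeSheaf (hE : IsAlgebraic J) (V : C) (hV : IsCoherent (eps J V)) (q : ℕ) :
    Both (CohCx.freeSheaf J V) q :=
  Both.of_iso (both_HK_coherent hE _ hV q) (freeEpsIso J V).symm

end Groth.Agent.H15Site.CohColim
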