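import Groth.Agent.H15Site.CohColim.SumNerve
import Groth.Agent.H15Site.CohColim.Isos

/-!
# Cohomology and filtered colimits from finite covering families
-/

set_option autoImplicit false
set_option linter.style.haveILetI false
set_option linter.unusedSectionVars false
set_option backward.isDefEq.respectTransparency false
set_option backward.isDefEq.respectTransparency.types false

universe u

open CategoryTheory CategoryTheory.Limits CategoryTheory.Abelian Opposite
open scoped Simplicial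

namespace Groth.Agent.H15Site.CohColim

attribute [local instance 10000] SiteInst.hasSheafifySite SiteInst.hasWeakSheafifySite SiteInst.hasExtSite

open ToposFin

variable {C : Type u} [SmallCategory C] {J : GrothendieckTopology C} {P : Sh J → Prop}

/-- Finite coproducts of members of `P`. -/
def FinSum (P : Sh J → Prop) (L : Sh J) : Prop :=
  ∃ (κ : Type u) (_ : Finite κ) (X : κ → Sh J) (h : ∀ i, X i ⟶ L),
    Nonempty (IsColimit (Cofan.mk L h)) ∧ ∀ i, P (X i)

/-- Epimorphisms onto members are refined by finite families all of whose fibre products are members. -/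
def FamRefinable (P : Sh J → Prop) : Prop :=
  ∀ (L : Sh J), P L → ∀ (F : Sh J) (p : F ⟶ L), Epi p →
    ∃ (κ : Type u) (_ : Finite κ) (X : κ → Sh J) (s : ∀ i, X i ⟶ F),
      TFin.JEpi (fun i => s i ≫ p) ∧ ∀ (n : ℕ) (a : Fin (n + 1) → κ), P (piece (fun i => s i ≫ p) a)

theorem setRefinable_finSum (h : FamRefinable P) : SetRefinable P (FinSum P) := fun L hL F p hp => by
  obtain ⟨κ, _, X, s, hs, hn⟩ := h L hL F p hp
  refine ⟨∐ X, Sigma.desc s, ⟨fun a b e => hs a b fun i => ?_⟩, fun n => ?_⟩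
  · have := congrArg (Sigma.ι X i ≫ ·) e
    simpa using this
  · obtain ⟨g, hg, -⟩ := exists_decomp (fun i => s i ≫ p) (coproductIsCoproduct X) (Sigma.desc s ≫ p)
      (fun k => by simp) n
    exact ⟨Fin (n + 1) → κ, inferInstance, _, g, hg, hn n⟩

theorem comm_finSum (h : ∀ K, P K → Comm K) (L : Sh J) (hL : FinSum P L) : Comm L := by
  classical
  obtain ⟨κ, _, X, g, ⟨hg⟩, hX⟩ := hL
  haveI := Fintype.ofFinite κ
  intro Λ _ _ D c hc
  refine ⟨fun φ => ?_, fun i a b e => ?_⟩
  · choose i k hk using fun t => (h _ (hX t) D c hc).1 (g t ≫ φ)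
    obtain ⟨i₀, hi₀⟩ := IsFiltered.sup_objs_exists (Finset.univ.image i)
    let u : ∀ t, i t ⟶ i₀ := fun t => (hi₀ (Finset.mem_image_of_mem i (Finset.mem_univ t))).some
    refine ⟨i₀, Cofan.IsColimit.desc hg fun t => k t ≫ D.map (u t), Cofan.IsColimit.hom_ext hg _ _ fun t => ?_⟩
    rw [← Category.assoc, Cofan.IsColimit.fac, Category.assoc, c.w, hk]
    rfl
  · obtain ⟨j, f, hf⟩ := TFin.exists_common (fun t j f => (g t ≫ a) ≫ D.map f = (g t ≫ b) ≫ D.map f)
      (fun t => (h _ (hX t) D c hc).2 i (g t ≫ a) (g t ≫ b) (by rw [Category.assoc, Category.assoc, e]))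
      (fun t j l f d e => by rw [D.map_comp, ← Category.assoc, e, Category.assoc])
    exact ⟨j, f, Cofan.IsColimit.hom_ext hg _ _ fun t => by
      exact (Category.assoc _ _ _).symm.trans ((hf t).trans (Category.assoc _ _ _))⟩

theorem ext_finSum (F : Sheaf J AddCommGrpCat.{u}) (q : ℕ)
    (h : ∀ L ∈ freeClass P, Subsingleton (Ext.{u} L F q)) :
    ∀ L ∈ freeClass (FinSum P), Subsingleton (Ext.{u} L F q) := by
  classical
  rintro _ ⟨K, ⟨κ, _, X, g, ⟨hg⟩, hX⟩, rfl⟩
  haveI := Fintype.ofFinite κ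
  haveI : PreservesColimitsOfSize.{u, u} (freeAb J) := (freeAdj J).leftAdjoint_preservesColimits
  have hA : IsColimit (Cofan.mk ((freeAb J).obj K) fun i => (freeAb J).map (g i)) :=
    isColimitCofanMkObjOfIsColimit (freeAb J) _ _ hg
  let pr : ∀ i, (freeAb J).obj K ⟶ (freeAb J).obj (X i) := fun i =>
    Cofan.IsColimit.desc hA fun t => if e : t = i then eqToHom (by rw [e]) else 0
  have hid : ∑ i, pr i ≫ (freeAb J).map (g i) = 𝟙 ((freeAb J).obj K) :=
    Cofan.IsColimit.hom_ext hA _ _ fun t => by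
      rw [Preadditive.comp_sum, Finset.sum_eq_single t]
      · rw [← Category.assoc, Cofan.IsColimit.fac, dif_pos rfl]
        simp
      · intro i _ hi
        rw [← Category.assoc, Cofan.IsColimit.fac, dif_neg (Ne.symm hi), zero_comp]
      · simp
  refine subsingleton_of_forall_eq 0 fun x => ?_
  rw [← Ext.mk₀_id_comp x, ← hid, Ext.mk₀_sum, Ext.sum_comp]
  refine Finset.sum_eq_zero fun i _ => ?_
  haveI := h _ ⟨X i, hX i, rfl⟩
  rw [← Ext.mk₀_comp_mk₀_assoc, Subsingleton.elim ((Ext.mk₀ ((freeAb J).map (g i))).comp x (zero_add q)) 0,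
    Ext.comp_zero]

theorem comm_of_famRefinable (hqc : ∀ K, P K → IsQC K) (h : FamRefinable P) (L : Sh J) (hL : P L) : Comm L := by
  classical
  intro Λ _ _ D c hc
  refine ⟨fun g => ?_, fun i a b e => TFin.hom_colimit_inj (hqc L hL) hc a b e⟩
  obtain ⟨s, hs⟩ := TFin.isQC_iff.1 (hqc L hL) _ _ _ ((TFin.jEpi_colimit hc).pullback g)
  obtain ⟨i₀, hi₀⟩ := IsFiltered.sup_objs_exists s
  haveI hepi : Epi (pullback.snd (c.ι.app i₀) g) := ⟨fun a b e => hs a b fun i => by
    let u := (hi₀ i.2).some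
    have : pullback.lift (pullback.fst (c.ι.app i.1) g ≫ D.map u) (pullback.snd _ _)
        (by rw [Category.assoc, c.w, pullback.condition]) ≫ pullback.snd (c.ι.app i₀) g =
          pullback.snd (c.ι.app i.1) g := pullback.lift_snd _ _ _
    exact (congrArg (· ≫ a) this.symm).trans ((Category.assoc _ _ _).trans ((congrArg (_ ≫ ·) e).trans
      ((Category.assoc _ _ _).symm.trans (congrArg (· ≫ b) this))))⟩
  obtain ⟨κ, _, X, t, ht, hn⟩ := h L hL _ (pullback.snd (c.ι.app i₀) g) hepi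
  let ρ : ∀ k, X k ⟶ L := fun k => t k ≫ pullback.snd (c.ι.app i₀) g
  let d : ∀ k, X k ⟶ D.obj i₀ := fun k => t k ≫ pullback.fst (c.ι.app i₀) g
  have hd : ∀ k, d k ≫ c.ι.app i₀ = ρ k ≫ g := fun k => by simp only [d, ρ, Category.assoc, pullback.condition]
  haveI := Fintype.ofFinite κ
  have hkl : ∀ p : κ × κ, ∃ (j : Λ) (f : i₀ ⟶ j),
      (pullback.fst (ρ p.1) (ρ p.2) ≫ d p.1) ≫ D.map f = (pullback.snd (ρ p.1) (ρ p.2) ≫ d p.2) ≫ D.map f := by
    rintro ⟨k, l⟩
    let a : Fin 2 → κ := Fin.cons k fun _ => l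
    let W := piece ρ a
    let π₀ : W ⟶ X k := WidePullback.π (fun i => ρ (a i)) 0
    let π₁ : W ⟶ X l := WidePullback.π (fun i => ρ (a i)) 1
    have hw : π₀ ≫ ρ k = π₁ ≫ ρ l :=
      (WidePullback.π_arrow (fun i => ρ (a i)) 0).trans (WidePullback.π_arrow (fun i => ρ (a i)) 1).symm
    obtain ⟨j, f, hf⟩ := TFin.hom_colimit_inj (hqc W (hn 1 a)) hc (π₀ ≫ d k) (π₁ ≫ d l) (by
      exact (Category.assoc _ _ _).trans ((congrArg (π₀ ≫ ·) (hd k)).trans ((Category.assoc _ _ _).symm.trans
        ((congrArg (· ≫ g) hw).trans ((Category.assoc _ _ _).trans ((congrArg (π₁ ≫ ·) (hd l).symm).trans (Category.assoc _ _ _).symm))))))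
    refine ⟨j, f, ?_⟩
    let m : pullback (ρ k) (ρ l) ⟶ W :=
      WidePullback.lift (pullback.fst _ _ ≫ ρ k)
        (Fin.cases (motive := fun i => pullback (ρ k) (ρ l) ⟶ X (a i)) (pullback.fst _ _) fun _ => pullback.snd _ _) (by
          intro i
          cases i using Fin.cases with
          | zero => simp only [Fin.cases_zero]; rfl
          | succ i => simp only [Fin.cases_succ]; exact pullback.condition.symm)
    have h0 : m ≫ π₀ = pullback.fst (ρ k) (ρ l) := WidePullback.lift_π _ _ _ _ _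
    have h1 : m ≫ π₁ = pullback.snd (ρ k) (ρ l) := WidePullback.lift_π _ _ _ _ _
    show (pullback.fst (ρ k) (ρ l) ≫ d k) ≫ D.map f = (pullback.snd (ρ k) (ρ l) ≫ d l) ≫ D.map f
    rw [← h0, ← h1]
    simpa only [Category.assoc] using congrArg (m ≫ ·) hf
  obtain ⟨j, f, hf⟩ := TFin.exists_common _ hkl (fun p k l f g e => by
    rw [D.map_comp, ← Category.assoc, e, Category.assoc])
  obtain ⟨b, hb⟩ := (show TFin.JEpi ρ from ht).exists_desc (fun k => d k ≫ D.map f) fun k l => by
    simpa [Category.assoc] using hf (k, l)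
  refine ⟨j, b, (show TFin.JEpi ρ from ht) _ _ fun k => ?_⟩
  rw [← Category.assoc, hb k, Category.assoc, c.w, hd]

theorem piece_mem (hP : PullbackClosed P) {κ : Type u} {F : κ → Sh J} {L : Sh J} (π : ∀ k, F k ⟶ L) (hL : P L)
    (hF : ∀ k, P (F k)) : ∀ (n : ℕ) (a : Fin (n + 1) → κ), P (piece π a) := by
  intro n
  induction n with
  | zero => exact fun a => hP.iso (pieceZero π a).symm (hF _)
  | succ n ih => exact fun a => hP.iso (pieceSplit π a).symm (hP.pb _ _ (hF _) (ih _) hL)

theorem subsingleton_colimit_fam (hc : ∀ K, P K → Comm K) (h : FamRefinable P) {Λ : Type u} [SmallCategory Λ]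
    [IsFiltered Λ] (D : Λ ⥤ Sheaf J AddCommGrpCat.{u}) (c : Cocone D) (hcol : IsColimit c)
    (hD : ∀ (i : Λ) (K : Sh J), P K → ∀ n : ℕ, Subsingleton (Ext.{u} ((freeAb J).obj K) (D.obj i) (n + 1)))
    (n : ℕ) (K : Sh J) (hK : P K) : Subsingleton (Ext.{u} ((freeAb J).obj K) c.pt (n + 1)) :=
  subsingleton_colimit (comm₀_freeClass (comm_finSum hc)) (fun F k h L hL => ext_finSum F k h L hL)
    (refinable_free (setRefinable_finSum h)) D c hcol
    (fun i L hL m => by obtain ⟨K', hK', rfl⟩ := hL; exact hD i K' hK' m) n _ ⟨K, hK, rfl⟩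

theorem both_fam (hc : ∀ K, P K → Comm K) (h : FamRefinable P) (K : Sh J) (hK : P K) (q : ℕ) :
    Both ((freeAb J).obj K) q :=
  both (T := freeClass P) (comm₀_freeClass hc) (fun Λ _ _ D c hcol hD L hL n => by
    obtain ⟨K', hK', rfl⟩ := hL
    exact subsingleton_colimit_fam hc h D c hcol (fun i _ _ _ =>
      ⟨fun a b => haveI := hD i; (Ext.eq_zero_of_injective a).trans (Ext.eq_zero_of_injective b).symm⟩) n K' hK')
    _ ⟨K, hK, rfl⟩ q

end Groth.Agent.H15Site.CohColim
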