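import Groth.Agent.H15Site.CohColim.Main
import Groth.Agent.H15Site.CechFree
import Groth.Agent.H15Site.ToposFin.Colim
import Groth.Agent.H15Site.SiteInst
import Groth.Prelude.Def_ToposFin2
import Mathlib.Algebra.Homology.SingleHomology

/-!
# Free abelian sheaves on objects of a topos and filtered colimits
-/

set_option autoImplicit false
set_option linter.style.haveILetI false
set_option linter.unusedSectionVars false
set_option backward.isDefEq.respectTransparency false
set_option backward.isDefEq.respectTransparency.types false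

universe u

open CategoryTheory CategoryTheory.Limits CategoryTheory.Abelian Opposite AlgebraicTopology
open scoped Simplicial

namespace Groth.Agent.H15Site.CohColim

attribute [local instance 10000] SiteInst.hasSheafifySite SiteInst.hasWeakSheafifySite SiteInst.hasExtSite

open ToposFin

variable {C : Type u} [SmallCategory C] {J : GrothendieckTopology C}

variable (J) in
/-- The underlying sheaf of sets. -/
noncomputable abbrev forg : Sheaf J AddCommGrpCat.{u} ⥤ Sh J :=
  sheafCompose J (CategoryTheory.forget AddCommGrpCat.{u})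

variable (J) in
/-- `Z[-] ⊣ forget`. -/
noncomputable def freeAdj : freeAb J ⊣ forg J := Sheaf.adjunction J AddCommGrpCat.adj

/-- A functor preserving colimits of two composable legs. -/
theorem preservesColimit_of_legs {A B E : Type*} [Category A] [Category B] [Category E] {Λ : Type*} [Category Λ]
    (D : Λ ⥤ A) (F : A ⥤ B) (G : B ⥤ E) [HasColimit D] [PreservesColimit D F] [PreservesColimit D (F ⋙ G)] :
    PreservesColimit (D ⋙ F) G :=
  preservesColimit_of_preserves_colimit_cocone (isColimitOfPreserves F (colimit.isColimit D))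
    (isColimitOfPreserves (F ⋙ G) (colimit.isColimit D))

theorem preservesColimit_forg {Λ : Type u} [SmallCategory Λ] [IsFiltered Λ] (D : Λ ⥤ Sheaf J AddCommGrpCat.{u}) :
    PreservesColimit D (forg J) := by
  let Φ := sheafToPresheaf J AddCommGrpCat.{u}
  let W := (Functor.whiskeringRight Cᵒᵖ _ _).obj (CategoryTheory.forget AddCommGrpCat.{u})
  let e : W ⋙ presheafToSheaf J (Type u) ≅ presheafToSheaf J AddCommGrpCat.{u} ⋙ forg J :=
    sheafComposeNatIso J (CategoryTheory.forget AddCommGrpCat.{u}) (sheafificationAdjunction J _)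
      (sheafificationAdjunction J _)
  haveI : PreservesColimitsOfSize.{u, u} (presheafToSheaf J AddCommGrpCat.{u}) :=
    (sheafificationAdjunction J _).leftAdjoint_preservesColimits
  haveI : PreservesColimitsOfSize.{u, u} (presheafToSheaf J (Type u)) :=
    (sheafificationAdjunction J _).leftAdjoint_preservesColimits
  haveI : PreservesColimit (D ⋙ Φ) (W ⋙ presheafToSheaf J (Type u)) := inferInstance
  haveI : PreservesColimit (D ⋙ Φ) (presheafToSheaf J AddCommGrpCat.{u} ⋙ forg J) :=
    preservesColimit_of_natIso _ e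
  haveI := preservesColimit_of_legs (D ⋙ Φ) (presheafToSheaf J AddCommGrpCat.{u}) (forg J)
  exact preservesColimit_of_iso_diagram (forg J)
    (Functor.isoWhiskerLeft D (asIso (sheafificationAdjunction J AddCommGrpCat.{u}).counit) ≪≫ D.rightUnitor :
      (D ⋙ Φ) ⋙ presheafToSheaf J AddCommGrpCat.{u} ≅ D)

/-- Maps out of `K` commute with filtered colimits of sheaves of sets. -/
def Comm (K : Sh J) : Prop :=
  ∀ {Λ : Type u} [SmallCategory Λ] [IsFiltered Λ] (D : Λ ⥤ Sh J) (c : Cocone D), IsColimit c →
    (∀ g : K ⟶ c.pt, ∃ (i : Λ) (h : K ⟶ D.obj i), h ≫ c.ι.app i = g) ∧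
    (∀ (i : Λ) (a b : K ⟶ D.obj i), a ≫ c.ι.app i = b ≫ c.ι.app i →
      ∃ (j : Λ) (k : i ⟶ j), a ≫ D.map k = b ≫ D.map k)

theorem comm₀_free {K : Sh J} (hK : Comm K) : Comm₀ ((freeAb J).obj K) := by
  have key : ∀ {Λ : Type u} [SmallCategory Λ] [IsFiltered Λ] (D : Λ ⥤ Sheaf J AddCommGrpCat.{u}) (c : Cocone D),
      IsColimit c → ∀ (i : Λ) (h : (freeAb J).obj K ⟶ D.obj i),
        (freeAdj J).homEquiv _ _ (h ≫ c.ι.app i) = (freeAdj J).homEquiv _ _ h ≫ (forg J).map (c.ι.app i) :=
    fun D c _ i h => (freeAdj J).homEquiv_naturality_right h _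
  refine ⟨fun D c hc g => ?_, fun D c hc i h h0 => ?_⟩
  · haveI := preservesColimit_forg D
    obtain ⟨i, h, hh⟩ := (hK _ _ (isColimitOfPreserves (forg J) hc)).1 ((freeAdj J).homEquiv _ _ g)
    refine ⟨i, ((freeAdj J).homEquiv _ _).symm h, ((freeAdj J).homEquiv _ _).injective ?_⟩
    rw [key D c hc, Equiv.apply_symm_apply]
    exact hh
  · haveI := preservesColimit_forg D
    obtain ⟨j, k, hk⟩ := (hK _ _ (isColimitOfPreserves (forg J) hc)).2 i ((freeAdj J).homEquiv _ _ h)
      ((freeAdj J).homEquiv _ _ (0 : (freeAb J).obj K ⟶ D.obj i)) (by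
        refine (key D c hc i h).symm.trans (Eq.trans ?_ (key D c hc i 0))
        rw [h0, zero_comp])
    refine ⟨j, k, ((freeAdj J).homEquiv _ _).injective ?_⟩
    rw [(freeAdj J).homEquiv_naturality_right]
    refine hk.trans ?_
    exact ((freeAdj J).homEquiv_naturality_right 0 (D.map k)).symm.trans (congrArg _ zero_comp)

theorem exact_of_quasiIso_ε {A : Type*} [Category A] [Abelian A] (X : SimplicialObject.Augmented A)
    [hq : QuasiIso (AlternatingFaceMapComplex.ε.app X)] (n : ℕ) :
    (ShortComplex.mk ((AlternatingFaceMapComplex.obj (SimplicialObject.Augmented.drop.obj X)).d (n + 2) (n + 1))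
      ((AlternatingFaceMapComplex.obj (SimplicialObject.Augmented.drop.obj X)).d (n + 1) n)
      (HomologicalComplex.d_comp_d _ _ _ _)).Exact := by
  have h : ((SimplicialObject.Augmented.drop ⋙ alternatingFaceMapComplex A).obj X).ExactAt (n + 1) :=
    (quasiIsoAt_iff_exactAt' (AlternatingFaceMapComplex.ε.app X) (n + 1)
      (ChainComplex.exactAt_succ_single_obj _ n)).1 inferInstance
  exact (HomologicalComplex.exactAt_iff' _ (n + 2) (n + 1) n (by simp) (by simp)).1 h

theorem ε_zero {A : Type*} [Category A] [Abelian A] (X : SimplicialObject.Augmented A) :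
    (AlternatingFaceMapComplex.obj (SimplicialObject.Augmented.drop.obj X)).d 1 0 ≫ X.hom.app (op ⦋0⦌) = 0 := by
  have h := (AlternatingFaceMapComplex.ε.app X).comm 1 0
  simp only [AlternatingFaceMapComplex.ε_app_f_zero] at h
  refine h.symm.trans ?_
  simp

theorem exact_zero_of_quasiIso_ε {A : Type*} [Category A] [Abelian A] (X : SimplicialObject.Augmented A)
    [hq : QuasiIso (AlternatingFaceMapComplex.ε.app X)] :
    (ShortComplex.mk ((AlternatingFaceMapComplex.obj (SimplicialObject.Augmented.drop.obj X)).d 1 0)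
      (X.hom.app (op ⦋0⦌) : (SimplicialObject.Augmented.drop.obj X).obj (op ⦋0⦌) ⟶
        SimplicialObject.Augmented.point.obj X) (ε_zero X)).Exact ∧
    Epi (X.hom.app (op ⦋0⦌) : (SimplicialObject.Augmented.drop.obj X).obj (op ⦋0⦌) ⟶
        SimplicialObject.Augmented.point.obj X) := by
  have h := (ChainComplex.quasiIsoAt₀_iff (AlternatingFaceMapComplex.ε.app X)).1 inferInstance
  rw [ShortComplex.quasiIso_iff_of_zeros'] at h
  · simpa [AlternatingFaceMapComplex.ε_app_f_zero] using h
  · simp
  · simp
  · simp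

/-- The resolution given by an augmented simplicial object. -/
noncomputable def resOfAug {A : Type*} [Category A] [Abelian A] (X : SimplicialObject.Augmented A)
    (h : QuasiIso (AlternatingFaceMapComplex.ε.app X)) : Res (SimplicialObject.Augmented.point.obj X) :=
  haveI := h
  { C := fun n => (SimplicialObject.Augmented.drop.obj X).obj (op ⦋n⦌)
    d := fun n => (AlternatingFaceMapComplex.obj (SimplicialObject.Augmented.drop.obj X)).d (n + 1) n
    ε := X.hom.app (op ⦋0⦌)
    d_comp := fun n => HomologicalComplex.d_comp_d _ _ _ _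
    d_ε := ε_zero X
    exact_d := fun n => exact_of_quasiIso_ε X n
    exact_ε := (exact_zero_of_quasiIso_ε X).1
    epi_ε := (exact_zero_of_quasiIso_ε X).2 }

theorem whiskering_hom_app {A B : Type*} [Category A] [Category B] (G : A ⥤ B)
    (Y : SimplicialObject.Augmented A) (n : SimplexCategoryᵒᵖ) :
    (((SimplicialObject.Augmented.whiskering A B).obj G).obj Y).hom.app n =
      G.map (Y.hom.app n : (SimplicialObject.Augmented.drop.obj Y).obj n ⟶ SimplicialObject.Augmented.point.obj Y) := by
  simp [SimplicialObject.Augmented.whiskering, SimplicialObject.Augmented.whiskeringObj]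

/-- The free Čech resolution of an epimorphism of sheaves of sets. -/
noncomputable def cechRes {K' K : Sh J} (f : K' ⟶ K) [Epi f] : Res ((freeAb J).obj K) :=
  resOfAug (((SimplicialObject.Augmented.whiskering _ _).obj (freeAb J)).obj (Arrow.mk f).augmentedCechNerve)
    (CechFree.quasiIso_sheaf f)

theorem cechRes_ε {K' K : Sh J} (f : K' ⟶ K) [Epi f] :
    (cechRes f).ε = (freeAb J).map (WidePullback.base (fun _ : Fin 1 => f)) :=
  whiskering_hom_app (freeAb J) (Arrow.mk f).augmentedCechNerve (op ⦋0⦌)

/-- Closed under isomorphisms. -/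
def IsoClosed (P : Sh J → Prop) : Prop := ∀ {K L : Sh J}, (K ≅ L) → P K → P L

/-- Epimorphisms onto members are refined by epimorphisms between members with all fibre powers members. -/
def SetRefinable (P P' : Sh J → Prop) : Prop :=
  ∀ (L : Sh J), P L → ∀ (F : Sh J) (p : F ⟶ L), Epi p → ∃ (L' : Sh J) (s : L' ⟶ F), Epi (s ≫ p) ∧
    ∀ n : ℕ, P' ((Arrow.mk (s ≫ p)).cechNerve.obj (op ⦋n⦌))

/-- The free abelian sheaves on the members of a class. -/
def freeClass (P : Sh J → Prop) : Set (Sheaf J AddCommGrpCat.{u}) :=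
  Set.ofPred fun L => ∃ K, P K ∧ (freeAb J).obj K = L

theorem refinable_free {P P' : Sh J → Prop} (hP : SetRefinable P P') : Refinable (freeClass P) (freeClass P') := by
  rintro _ ⟨K, hK, rfl⟩ F p hp
  haveI := hp
  haveI : Sheaf.IsLocallySurjective p := (Sheaf.isLocallySurjective_iff_epi' AddCommGrpCat.{u} p).2 inferInstance
  haveI : Sheaf.IsLocallySurjective ((forg J).map p) := inferInstance
  haveI : Epi ((forg J).map p) := Sheaf.epi_of_isLocallySurjective _
  let η : K ⟶ (forg J).obj ((freeAb J).obj K) := (freeAdj J).unit.app K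
  haveI : Epi (pullback.snd ((forg J).map p) η) :=
    ⟨fun a b h => ((TFin.jEpi_single ((forg J).map p)).pullback η) a b fun _ : PUnit.{1} => h⟩
  obtain ⟨L', s, hs, hn⟩ := hP K hK (pullback ((forg J).map p) η) (pullback.snd _ _) inferInstance
  let f := s ≫ pullback.snd ((forg J).map p) η
  haveI : Epi f := hs
  refine ⟨cechRes f, fun m => ⟨_, hn m, rfl⟩, ?_⟩
  let π₀ : (Arrow.mk f).cechNerve.obj (op ⦋0⦌) ⟶ L' := WidePullback.π (fun _ : Fin 1 => f) 0
  refine ⟨((freeAdj J).homEquiv _ _).symm (π₀ ≫ s ≫ pullback.fst ((forg J).map p) η), ?_⟩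
  apply ((freeAdj J).homEquiv _ _).injective
  rw [cechRes_ε, (freeAdj J).homEquiv_naturality_right, Equiv.apply_symm_apply]
  refine Eq.trans ?_ (Adjunction.homEquiv_unit _ _ _ _).symm
  refine Eq.trans ?_ ((freeAdj J).unit.naturality (WidePullback.base (fun _ : Fin 1 => f)))
  have h := WidePullback.π_arrow (fun _ : Fin 1 => f) 0
  refine ((Category.assoc _ _ _).trans (congrArg (π₀ ≫ ·) ((Category.assoc _ _ _).trans
    (congrArg (s ≫ ·) pullback.condition)))).trans ?_
  exact ((congrArg (π₀ ≫ ·) (Category.assoc _ _ _).symm).trans (Category.assoc _ _ _).symm).trans (congrArg (· ≫ η) h)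

theorem comm₀_freeClass {P : Sh J → Prop} (hP : ∀ K, P K → Comm K) : ∀ L ∈ freeClass P, Comm₀ L := by
  rintro _ ⟨K, hK, rfl⟩
  exact comm₀_free (hP K hK)

end Groth.Agent.H15Site.CohColim
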