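import Groth.Agent.H15Site.CohColim.Resolution
import Mathlib.Algebra.Homology.DerivedCategory.Ext.EnoughInjectives
import Mathlib.CategoryTheory.Abelian.GrothendieckCategory.EnoughInjectives
import Mathlib.Algebra.Category.Grp.FilteredColimits
import Mathlib.Algebra.Category.Grp.Preadditive
import Mathlib.CategoryTheory.Limits.ConcreteCategory.Basic
import Mathlib.CategoryTheory.Limits.Types.Filtered
import Mathlib.CategoryTheory.Adjunction.Limits

/-!
# Ext out of a class of objects and filtered colimits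
-/

set_option autoImplicit false
set_option linter.style.haveILetI false
set_option linter.unusedSectionVars false

universe u

open CategoryTheory CategoryTheory.Limits CategoryTheory.Abelian MorphismProperty ZeroObject

namespace Groth.Agent.H15Site.CohColim

variable {A : Type (u + 1)} [Category.{u} A] [Abelian A] [IsGrothendieckAbelian.{u} A] [HasExt.{u} A]

/-- `Hom(L, -)` commutes with filtered colimits. -/
structure Comm₀ (L : A) : Prop where
  surj : ∀ {Λ : Type u} [SmallCategory Λ] [IsFiltered Λ] (D : Λ ⥤ A) (c : Cocone D), IsColimit c →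
    ∀ g : L ⟶ c.pt, ∃ (i : Λ) (h : L ⟶ D.obj i), h ≫ c.ι.app i = g
  inj : ∀ {Λ : Type u} [SmallCategory Λ] [IsFiltered Λ] (D : Λ ⥤ A) (c : Cocone D), IsColimit c →
    ∀ (i : Λ) (h : L ⟶ D.obj i), h ≫ c.ι.app i = 0 → ∃ (j : Λ) (k : i ⟶ j), h ≫ D.map k = 0

variable (T T' : Set A)

/-- Every epimorphism onto a member of `T` is refined by a resolution by members of `T'`. -/
def Refinable : Prop :=
  ∀ L ∈ T, ∀ (F : A) (p : F ⟶ L), Epi p →
    ∃ R : Res L, (∀ m, R.C m ∈ T') ∧ ∃ s : R.C 0 ⟶ F, s ≫ p = R.ε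

variable {T T'}

/-- Every class of positive degree dies on the first term of some resolution. -/
theorem exists_efface (hT : Refinable T T') : ∀ (n : ℕ) (L : A), L ∈ T → ∀ (F : A) (x : Ext.{u} L F (n + 1)),
    ∃ R : Res L, (∀ m, R.C m ∈ T') ∧ (Ext.mk₀ R.ε).comp x (zero_add _) = 0 := by
  intro n
  induction n with
  | zero =>
    intro L hL F x
    let S : ShortComplex A := ShortComplex.mk (Injective.ι F) (cokernel.π (Injective.ι F)) (cokernel.condition _)
    have hS : S.ShortExact :=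
      { exact := ShortComplex.exact_cokernel _, mono_f := inferInstance, epi_g := inferInstance }
    obtain ⟨y, hy⟩ := Ext.covariant_sequence_exact₁ L hS x (Ext.eq_zero_of_injective _) (n₀ := 0) (zero_add 1)
    obtain ⟨φ, rfl⟩ := (Ext.mk₀_bijective L S.X₃).2 y
    haveI : Epi S.g := hS.epi_g
    obtain ⟨R, hR, s, hs⟩ := hT L hL (pullback S.g φ) (pullback.snd S.g φ) inferInstance
    refine ⟨R, hR, ?_⟩
    rw [← hy, Ext.mk₀_comp_mk₀_assoc, ← hs, Category.assoc, ← pullback.condition, ← Category.assoc,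
      ← Ext.mk₀_comp_mk₀_assoc, hS.comp_extClass, Ext.comp_zero]
  | succ n ih =>
    intro L hL F x
    let S : ShortComplex A := ShortComplex.mk (Injective.ι F) (cokernel.π (Injective.ι F)) (cokernel.condition _)
    have hS : S.ShortExact :=
      { exact := ShortComplex.exact_cokernel _, mono_f := inferInstance, epi_g := inferInstance }
    obtain ⟨y, hy⟩ := Ext.covariant_sequence_exact₁ L hS x (Ext.eq_zero_of_injective _) (n₀ := n + 1) rfl
    obtain ⟨R, hR, hy0⟩ := ih L hL S.X₃ y
    refine ⟨R, hR, ?_⟩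
    rw [← hy, ← Ext.comp_assoc _ _ _ (zero_add (n + 1)) rfl (by omega), hy0, Ext.zero_comp]

variable {Λ : Type u} [SmallCategory Λ] [IsFiltered Λ]

/-- A filtered colimit of objects acyclic on `T` is acyclic on `T`. -/
theorem subsingleton_colimit (h0 : ∀ L ∈ T', Comm₀ L)
    (hs : ∀ (F : A) (k : ℕ), (∀ L ∈ T, Subsingleton (Ext.{u} L F k)) → ∀ L ∈ T', Subsingleton (Ext.{u} L F k)) (hT : Refinable T T') (D : Λ ⥤ A) (c : Cocone D)
    (hc : IsColimit c) (hD : ∀ (i : Λ), ∀ L ∈ T, ∀ (n : ℕ), Subsingleton (Ext.{u} L (D.obj i) (n + 1))) :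
    ∀ (n : ℕ) (L : A), L ∈ T → Subsingleton (Ext.{u} L c.pt (n + 1)) := by
  intro n
  induction n using Nat.strong_induction_on with
  | _ n ih =>
    intro L hL
    refine subsingleton_of_forall_eq 0 fun x => ?_
    obtain ⟨R, hR, hx⟩ := exists_efface hT n L hL c.pt x
    obtain ⟨f, hf, hfx⟩ := exists_cocycle n R
      (fun m k hk z => haveI := hs _ _ (fun L' hL' => ih k hk L' hL') _ (hR (m + 1)); Subsingleton.elim _ _) x hx
    obtain ⟨i, g, hg⟩ := (h0 _ (hR (n + 1))).surj D c hc f
    obtain ⟨j, k, hk⟩ := (h0 _ (hR (n + 1 + 1))).inj D c hc i (R.d (n + 1) ≫ g)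
      (by rw [Category.assoc, hg, hf])
    obtain ⟨y, hy⟩ := exists_isCls n R (g ≫ D.map k) (by rw [← Category.assoc, hk])
    have h := hy.map n R _ _ (c.ι.app j)
    rw [Category.assoc, c.w k, hg] at h
    haveI := hD j L hL n
    rw [IsCls.unique n R f x _ hfx h, Subsingleton.elim y 0, Ext.zero_comp]

/-- The image of a class. -/
noncomputable abbrev push {L F G : A} (f : F ⟶ G) {n : ℕ} (x : Ext.{u} L F n) : Ext.{u} L G n :=
  x.comp (Ext.mk₀ f) (add_zero n)

theorem push_push {L F G H : A} (f : F ⟶ G) (g : G ⟶ H) {n : ℕ} (x : Ext.{u} L F n) :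
    push g (push f x) = push (f ≫ g) x := by
  rw [push, push, push, Ext.comp_assoc_of_second_deg_zero, Ext.mk₀_comp_mk₀]

theorem push_sub {L F G : A} (f : F ⟶ G) {n : ℕ} (x y : Ext.{u} L F n) :
    push f (x - y) = push f x - push f y :=
  map_sub ((Ext.mk₀ f).postcomp L (add_zero n)) x y

theorem push_zero {L F G : A} (f : F ⟶ G) {n : ℕ} : push f (0 : Ext.{u} L F n) = 0 :=
  map_zero ((Ext.mk₀ f).postcomp L (add_zero n))

theorem δ_natural {L : A} {S S' : ShortComplex A} (hS : S.ShortExact) (hS' : S'.ShortExact) (φ : S ⟶ S')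
    {n : ℕ} (y : Ext.{u} L S.X₃ n) :
    (push φ.τ₃ y).comp hS'.extClass rfl = push φ.τ₁ (y.comp hS.extClass (rfl : n + 1 = n + 1)) := by
  rw [push, push, Ext.comp_assoc_of_second_deg_zero, Ext.comp_assoc_of_third_deg_zero,
    ShortComplex.ShortExact.extClass_naturality hS hS' φ]

theorem δ_push {L : A} {S : ShortComplex A} (hS : S.ShortExact) {n : ℕ} (z : Ext.{u} L S.X₂ n) :
    (push S.g z).comp hS.extClass (rfl : n + 1 = n + 1) = 0 := by
  rw [push, Ext.comp_assoc_of_second_deg_zero, hS.comp_extClass, Ext.comp_zero]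

/-- The functorial injective envelope. -/
noncomputable def fac : FunctorialFactorizationData (monomorphisms A) (monomorphisms A).rlp :=
  functorialFactorizationData _ _

/-- The zero arrow out of an object. -/
noncomputable def zeroArrow : A ⥤ Arrow A where
  obj X := Arrow.mk (0 : X ⟶ (0 : A))
  map f := Arrow.homMk f (𝟙 _) (by simp)

/-- A functorial injective object. -/
noncomputable def inj : A ⥤ A := zeroArrow ⋙ (fac (A := A)).Z

/-- The embedding into it. -/
noncomputable def toInj : 𝟭 A ⟶ inj (A := A) where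
  app X := (fac (A := A)).i.app (Arrow.mk (0 : X ⟶ (0 : A)))
  naturality X Y f := (fac (A := A)).i.naturality (zeroArrow.map f)

theorem mono_toInj (X : A) : Mono (toInj.app X) := (fac (A := A)).hi _

theorem injective_inj (X : A) : Injective ((inj (A := A)).obj X) := by
  rw [injective_iff_rlp_monomorphisms_zero]
  have h := (fac (A := A)).hp (Arrow.mk (0 : X ⟶ (0 : A)))
  rwa [(isZero_zero A).eq_of_tgt ((fac (A := A)).p.app (Arrow.mk (0 : X ⟶ (0 : A)))) 0] at h

variable (T) in
/-- Filtered colimits of injective objects are acyclic on `T`. -/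
def InjColimAcyclic : Prop :=
  ∀ (Λ : Type u) [SmallCategory Λ] [IsFiltered Λ] (D : Λ ⥤ A) (c : Cocone D), IsColimit c →
    (∀ i, Injective (D.obj i)) → ∀ L ∈ T, ∀ n : ℕ, Subsingleton (Ext.{u} L c.pt (n + 1))

theorem injColimAcyclic_of_refinable (h0 : ∀ L ∈ T, Comm₀ L) (hT : Refinable T T) : InjColimAcyclic T :=
  fun Λ _ _ D c hc hD L hL n => subsingleton_colimit h0 (fun _ _ h => h) hT D c hc
    (fun i _ _ _ => ⟨fun a b => haveI := hD i; (Ext.eq_zero_of_injective a).trans (Ext.eq_zero_of_injective b).symm⟩)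
    n L hL

/-- Both halves of the commutation of `Ext(L, -)` with filtered colimits. -/
theorem commutes (h0 : ∀ L ∈ T, Comm₀ L) (hA : InjColimAcyclic T) (L : A) (hL : L ∈ T) (q : ℕ) :
    ∀ (D : Λ ⥤ A) (c : Cocone D), IsColimit c →
      (∀ x : Ext.{u} L c.pt q, ∃ (i : Λ) (y : Ext.{u} L (D.obj i) q), push (c.ι.app i) y = x) ∧
      (∀ (i : Λ) (y : Ext.{u} L (D.obj i) q), push (c.ι.app i) y = 0 →
        ∃ (j : Λ) (k : i ⟶ j), push (D.map k) y = 0) := by
  induction q with
  | zero =>
    intro D c hc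
    refine ⟨fun x => ?_, fun i y hy => ?_⟩
    · obtain ⟨g, rfl⟩ := (Ext.mk₀_bijective L c.pt).2 x
      obtain ⟨i, h, hh⟩ := (h0 L hL).surj D c hc g
      exact ⟨i, Ext.mk₀ h, by rw [push, Ext.mk₀_comp_mk₀, hh]⟩
    · obtain ⟨g, rfl⟩ := (Ext.mk₀_bijective L (D.obj i)).2 y
      rw [push, Ext.mk₀_comp_mk₀] at hy
      obtain ⟨j, k, hk⟩ := (h0 L hL).inj D c hc i g ((Ext.mk₀_bijective L c.pt).1 (hy.trans (Ext.mk₀_zero L c.pt).symm))
      exact ⟨j, k, by rw [push, Ext.mk₀_comp_mk₀, hk, Ext.mk₀_zero]⟩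
  | succ q ih =>
    intro D c hc
    let I : Λ ⥤ A := D ⋙ inj
    let a : D ⟶ I := D.rightUnitor.inv ≫ Functor.whiskerLeft D toInj
    have hma : ∀ i, Mono (a.app i) := fun i => by
      haveI := mono_toInj (D.obj i)
      show Mono (𝟙 (D.obj i) ≫ toInj.app (D.obj i))
      rw [Category.id_comp]
      infer_instance
    have : Mono a := NatTrans.mono_of_mono_app a
    let S : ShortComplex (Λ ⥤ A) := ShortComplex.mk a (cokernel.π a) (cokernel.condition a)
    have hS : S.ShortExact :=
      { exact := ShortComplex.exact_of_g_is_cokernel _ (cokernelIsCokernel _)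
        mono_f := by dsimp [S]; infer_instance
        epi_g := by dsimp [S]; infer_instance }
    let Q : Λ ⥤ A := cokernel a
    let π : I ⟶ Q := cokernel.π a
    let Si : Λ → ShortComplex A := fun i => ShortComplex.mk (a.app i) (π.app i)
      (congrArg (fun t : D ⟶ Q => t.app i) (cokernel.condition a))
    have hSi : ∀ i, (Si i).ShortExact := fun i => hS.map_of_exact ((evaluation Λ A).obj i)
    let E : ShortComplex A := ShortComplex.mk (colimMap a) (colimMap π)
      ((colim.map_comp a π).symm.trans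
        ((congrArg (fun t : D ⟶ Q => colim.map t) (cokernel.condition a)).trans
          ((colim : (Λ ⥤ A) ⥤ A).map_zero _ _)))
    have hE : E.ShortExact := hS.map_of_exact (colim : (Λ ⥤ A) ⥤ A)
    let φ : ∀ i, Si i ⟶ E := fun i =>
      { τ₁ := colimit.ι D i
        τ₂ := colimit.ι I i
        τ₃ := colimit.ι Q i
        comm₁₂ := ι_colimMap a i
        comm₂₃ := ι_colimMap π i }
    let ψ : ∀ {i j : Λ} (_ : i ⟶ j), Si i ⟶ Si j := fun k =>
      { τ₁ := D.map k
        τ₂ := I.map k
        τ₃ := Q.map k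
        comm₁₂ := a.naturality k
        comm₂₃ := π.naturality k }
    have hI : Subsingleton (Ext.{u} L (colimit I) (q + 1)) :=
      hA Λ I (colimit.cocone I) (colimit.isColimit I) (fun i => injective_inj _) L hL q
    let e : colimit D ≅ c.pt := (colimit.isColimit D).coconePointUniqueUpToIso hc
    have he : ∀ i, colimit.ι D i ≫ e.hom = c.ι.app i := fun i =>
      (colimit.isColimit D).comp_coconePointUniqueUpToIso_hom hc i
    obtain ⟨ih₁, ih₂⟩ := ih Q (colimit.cocone Q) (colimit.isColimit _)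
    obtain ⟨ihI₁, -⟩ := ih I (colimit.cocone I) (colimit.isColimit _)
    refine ⟨fun x => ?_, fun i y hy => ?_⟩
    · obtain ⟨z, hz⟩ := Ext.covariant_sequence_exact₁ L hE (push e.inv x)
        (Subsingleton.elim (α := Ext.{u} L (colimit I) (q + 1)) _ _) (n₀ := q) rfl
      obtain ⟨i, w, hw⟩ := ih₁ z
      refine ⟨i, w.comp (hSi i).extClass rfl, ?_⟩
      have h := (δ_natural (hSi i) hE (φ i) w).symm.trans
        ((congrArg (fun t => Ext.comp t hE.extClass rfl) hw).trans hz)
      have h' := congrArg (push e.hom) h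
      rw [push_push, push_push] at h'
      refine (Eq.trans ?_ h').trans ?_
      · exact congrArg (fun t => push t _) (he i).symm
      · rw [e.inv_hom_id]
        exact Ext.comp_mk₀_id x
    · haveI : Injective (Si i).X₂ := injective_inj _
      obtain ⟨w, rfl⟩ := Ext.covariant_sequence_exact₁ L (hSi i) y
        (Ext.eq_zero_of_injective _) (n₀ := q) rfl
      have h₀ : (push (φ i).τ₃ w).comp hE.extClass (rfl : q + 1 = q + 1) = 0 := by
        rw [δ_natural (hSi i) hE (φ i)]
        have h' := congrArg (push e.inv) hy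
        rw [push_push, ← he, Category.assoc, e.hom_inv_id, Category.comp_id] at h'
        exact h'.trans (push_zero _)
      obtain ⟨v, hv⟩ := Ext.covariant_sequence_exact₃ L hE _ rfl h₀
      obtain ⟨i', v', hv'⟩ := ihI₁ v
      obtain ⟨j₀, k₀, k₁, -⟩ := IsFilteredOrEmpty.cocone_objs i i'
      obtain ⟨j, k, hk⟩ := ih₂ j₀ (push (ψ k₀).τ₃ w -
        push (π.app j₀) (push (I.map k₁) v')) (by
          change push (colimit.ι Q j₀) _ = 0
          rw [push_sub]
          rw [push_push, push_push, push_push, sub_eq_zero]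
          refine ((congrArg (fun t => push t w) (colimit.w Q k₀)).trans hv.symm).trans ?_
          change push E.g v = _
          rw [← hv', push_push]
          refine congrArg (fun t => push t v') ?_
          change colimit.ι I i' ≫ colimMap π = I.map k₁ ≫ π.app j₀ ≫ colimit.ι Q j₀
          rw [← ι_colimMap, colimit.w_assoc])
      refine ⟨j, k₀ ≫ k, ?_⟩
      refine (δ_natural (hSi i) (hSi j) (ψ (k₀ ≫ k)) w).symm.trans ?_
      have h₁ : push (ψ (k₀ ≫ k)).τ₃ w = push (π.app j) (push (I.map (k₁ ≫ k)) v') := by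
        have h := sub_eq_zero.1 ((push_sub _ _ _).symm.trans hk)
        rw [push_push, push_push, push_push] at h
        rw [push_push]
        refine Eq.trans ?_ (h.trans ?_)
        · exact congrArg (fun t => push t w) (Q.map_comp k₀ k)
        · refine congrArg (fun t => push t v') ?_
          rw [← π.naturality k, ← Category.assoc, ← I.map_comp]
      rw [h₁]
      exact δ_push (hSi j) (push (I.map (k₁ ≫ k)) v')

/-- Both halves of the commutation of `Ext^q(L, -)` with filtered colimits, on elements. -/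
def Both (L : A) (q : ℕ) : Prop :=
  ∀ {Λ : Type u} [SmallCategory Λ] [IsFiltered Λ] (D : Λ ⥤ A) (c : Cocone D), IsColimit c →
    (∀ x : Ext.{u} L c.pt q, ∃ (i : Λ) (y : Ext.{u} L (D.obj i) q), push (c.ι.app i) y = x) ∧
    (∀ (i : Λ) (y : Ext.{u} L (D.obj i) q), push (c.ι.app i) y = 0 →
      ∃ (j : Λ) (k : i ⟶ j), push (D.map k) y = 0)

theorem both (h0 : ∀ L ∈ T, Comm₀ L) (hA : InjColimAcyclic T) (L : A) (hL : L ∈ T) (q : ℕ) : Both L q :=
  fun D c hc => commutes h0 hA L hL q D c hc

theorem preservesColimit_of_both {L : A} {q : ℕ} (h : Both L q) (D : Λ ⥤ A) :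
    PreservesColimit D ((extFunctor.{u} q).obj (Opposite.op L)) := by
  have : ReflectsColimitsOfShape Λ (CategoryTheory.forget AddCommGrpCat.{u}) :=
    reflectsColimitsOfShape_of_reflectsIsomorphisms
  refine ⟨fun {c} hc => ⟨isColimitOfReflects (CategoryTheory.forget AddCommGrpCat.{u}) ?_⟩⟩
  refine Types.FilteredColimit.isColimitOf' _ _ (fun x => ?_) (fun i x y hxy => ?_)
  · obtain ⟨i, z, hz⟩ := (h D c hc).1 x
    exact ⟨i, z, hz.symm⟩
  · have key : ∀ (x y : Ext.{u} L (D.obj i) q), push (c.ι.app i) x = push (c.ι.app i) y →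
        ∃ (j : Λ) (k : i ⟶ j), push (D.map k) x = push (D.map k) y := fun x y hxy => by
      obtain ⟨j, k, hk⟩ := (h D c hc).2 i (x - y) ((push_sub _ _ _).trans (sub_eq_zero.2 hxy))
      exact ⟨j, k, sub_eq_zero.1 ((push_sub _ _ _).symm.trans hk)⟩
    obtain ⟨j, k, hk⟩ := key x y hxy
    exact ⟨j, k, hk⟩

theorem preservesColimitsOfShape_of_both {L : A} {q : ℕ} (h : Both L q) :
    PreservesColimitsOfShape Λ ((extFunctor.{u} q).obj (Opposite.op L)) :=
  ⟨fun {D} => preservesColimit_of_both h D⟩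

theorem Both.of_iso {L L' : A} {q : ℕ} (h : Both L q) (e : L ≅ L') : Both L' q := by
  intro Λ _ _ D c hc
  have key : ∀ {F : A} (y : Ext.{u} L F q), (Ext.mk₀ e.hom).comp ((Ext.mk₀ e.inv).comp y (zero_add q)) (zero_add q) = y :=
    fun y => by rw [Ext.mk₀_comp_mk₀_assoc, Iso.hom_inv_id, Ext.mk₀_id_comp]
  have key' : ∀ {F : A} (y : Ext.{u} L' F q), (Ext.mk₀ e.inv).comp ((Ext.mk₀ e.hom).comp y (zero_add q)) (zero_add q) = y :=
    fun y => by rw [Ext.mk₀_comp_mk₀_assoc, Iso.inv_hom_id, Ext.mk₀_id_comp]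
  refine ⟨fun x => ?_, fun i y hy => ?_⟩
  · obtain ⟨i, y, hy⟩ := (h D c hc).1 ((Ext.mk₀ e.hom).comp x (zero_add q))
    refine ⟨i, (Ext.mk₀ e.inv).comp y (zero_add q), ?_⟩
    rw [push, Ext.comp_assoc_of_third_deg_zero]
    exact (congrArg (fun t => (Ext.mk₀ e.inv).comp t (zero_add q)) hy).trans (key' x)
  · obtain ⟨j, k, hk⟩ := (h D c hc).2 i ((Ext.mk₀ e.hom).comp y (zero_add q)) (by
      rw [push, Ext.comp_assoc_of_third_deg_zero]
      exact (congrArg (fun t => (Ext.mk₀ e.hom).comp t (zero_add q)) hy).trans (Ext.comp_zero _ _ _ _ _))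
    refine ⟨j, k, ?_⟩
    rw [push, Ext.comp_assoc_of_third_deg_zero] at hk
    rw [← key' (push (D.map k) y)]
    exact (congrArg (fun t => (Ext.mk₀ e.inv).comp t (zero_add q)) hk).trans (Ext.comp_zero _ _ _ _ _)

theorem Comm₀.of_iso {L L' : A} (h : Comm₀ L) (e : L ≅ L') : Comm₀ L' where
  surj D c hc g := by
    obtain ⟨i, k, hk⟩ := h.surj D c hc (e.hom ≫ g)
    exact ⟨i, e.inv ≫ k, by rw [Category.assoc, hk, Iso.inv_hom_id_assoc]⟩
  inj D c hc i g hg := by
    obtain ⟨j, k, hk⟩ := h.inj D c hc i (e.hom ≫ g) (by rw [Category.assoc, hg, comp_zero])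
    exact ⟨j, k, by rw [← cancel_epi e.hom, ← Category.assoc, hk, comp_zero]⟩

/-- **`Ext(L, -)` preserves filtered colimits.** -/
theorem preservesColimit (h0 : ∀ L ∈ T, Comm₀ L) (hA : InjColimAcyclic T) (L : A) (hL : L ∈ T) (q : ℕ)
    (D : Λ ⥤ A) : PreservesColimit D ((extFunctor.{u} q).obj (Opposite.op L)) :=
  preservesColimit_of_both (both h0 hA L hL q) D

theorem preservesColimitsOfShape (h0 : ∀ L ∈ T, Comm₀ L) (hA : InjColimAcyclic T) (L : A) (hL : L ∈ T) (q : ℕ) :
    PreservesColimitsOfShape Λ ((extFunctor.{u} q).obj (Opposite.op L)) :=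
  ⟨fun {D} => preservesColimit h0 hA L hL q D⟩

end Groth.Agent.H15Site.CohColim
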