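import Mathlib.Algebra.Homology.DerivedCategory.Ext.ExactSequences
import Mathlib.Algebra.Homology.ShortComplex.Exact
import Mathlib.CategoryTheory.Abelian.Exact

/-!
# Ext classes attached to cocycles of a resolution
-/

set_option autoImplicit false

universe w v u

open CategoryTheory CategoryTheory.Limits CategoryTheory.Abelian

namespace Groth.Agent.H15Site.CohColim

variable {A : Type u} [Category.{v} A] [Abelian A]

/-- A left resolution of `N`. -/
structure Res (N : A) where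
  C : ℕ → A
  d : ∀ n, C (n + 1) ⟶ C n
  ε : C 0 ⟶ N
  d_comp : ∀ n, d (n + 1) ≫ d n = 0
  d_ε : d 0 ≫ ε = 0
  exact_d : ∀ n, (ShortComplex.mk (d (n + 1)) (d n) (d_comp n)).Exact
  exact_ε : (ShortComplex.mk (d 0) ε d_ε).Exact
  epi_ε : Epi ε

variable {N : A} (R : Res N)

/-- The short exact sequence `0 → ker ε → C₀ → N → 0`. -/
noncomputable abbrev Res.seq : ShortComplex A :=
  ShortComplex.mk (kernel.ι R.ε) R.ε (kernel.condition _)

theorem Res.seq_shortExact : R.seq.ShortExact :=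
  haveI := R.epi_ε
  { exact := ShortComplex.exact_of_f_is_kernel _ (kernelIsKernel R.ε)
    mono_f := inferInstance
    epi_g := inferInstance }

/-- The shifted resolution, of `ker ε`. -/
noncomputable def Res.tail : Res (kernel R.ε) where
  C n := R.C (n + 1)
  d n := R.d (n + 1)
  ε := kernel.lift R.ε (R.d 0) R.d_ε
  d_comp n := R.d_comp (n + 1)
  d_ε := by rw [← cancel_mono (kernel.ι R.ε), Category.assoc, kernel.lift_ι, R.d_comp, zero_comp]
  exact_d n := R.exact_d (n + 1)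
  exact_ε := by
    refine (ShortComplex.exact_iff_of_epi_of_isIso_of_mono
      (S₁ := ShortComplex.mk (R.d 1) (kernel.lift R.ε (R.d 0) R.d_ε)
        (by rw [← cancel_mono (kernel.ι R.ε), Category.assoc, kernel.lift_ι, R.d_comp, zero_comp]))
      (S₂ := ShortComplex.mk (R.d 1) (R.d 0) (R.d_comp 0))
      { τ₁ := 𝟙 _, τ₂ := 𝟙 _, τ₃ := kernel.ι R.ε
        comm₁₂ := by simp
        comm₂₃ := by simp }).2 (R.exact_d 0)
  epi_ε := R.exact_ε.epi_kernelLift

variable [HasExt.{w} A]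

/-- `IsCls n R f x`: the class `x` is the image of the cocycle `f` by the iterated connecting map. -/
def IsCls {F : A} : ∀ (n : ℕ) {N : A} (R : Res N), (R.C (n + 1) ⟶ F) → Ext.{w} N F (n + 1) → Prop
  | 0, _, R, f, x => ∃ y : kernel R.ε ⟶ F,
      (R.tail.ε ≫ y : R.tail.C 0 ⟶ F) = f ∧ R.seq_shortExact.extClass.comp (Ext.mk₀ y) (add_zero 1) = x
  | n + 1, _, R, f, x => ∃ y : Ext.{w} (kernel R.ε) F (n + 1),
      IsCls n R.tail f y ∧ R.seq_shortExact.extClass.comp y (by omega) = x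

variable {F G : A}

theorem exists_isCls : ∀ (n : ℕ) {N : A} (R : Res N) (f : R.C (n + 1) ⟶ F), R.d (n + 1) ≫ f = 0 →
    ∃ x : Ext.{w} N F (n + 1), IsCls n R f x := by
  intro n
  induction n with
  | zero =>
    intro N R f hf
    haveI : Epi (ShortComplex.mk (R.tail.d 0) R.tail.ε R.tail.d_ε).g := R.tail.epi_ε
    exact ⟨_, R.tail.exact_ε.desc f hf, R.tail.exact_ε.g_desc f hf, rfl⟩
  | succ n ih =>
    intro N R f hf
    obtain ⟨y, hy⟩ := ih R.tail f hf
    exact ⟨_, y, hy, rfl⟩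

theorem IsCls.unique : ∀ (n : ℕ) {N : A} (R : Res N) (f : R.C (n + 1) ⟶ F) (x x' : Ext.{w} N F (n + 1)),
    IsCls n R f x → IsCls n R f x' → x = x' := by
  intro n
  induction n with
  | zero =>
    rintro N R f x x' ⟨y, hy, rfl⟩ ⟨y', hy', rfl⟩
    haveI := R.tail.epi_ε
    rw [(cancel_epi R.tail.ε).1 (hy.trans hy'.symm)]
  | succ n ih =>
    rintro N R f x x' ⟨y, hy, rfl⟩ ⟨y', hy', rfl⟩
    rw [ih R.tail f y y' hy hy']

theorem IsCls.map : ∀ (n : ℕ) {N : A} (R : Res N) (f : R.C (n + 1) ⟶ F) (x : Ext.{w} N F (n + 1)) (g : F ⟶ G),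
    IsCls n R f x → IsCls n R (f ≫ g) (x.comp (Ext.mk₀ g) (add_zero _)) := by
  intro n
  induction n with
  | zero =>
    rintro N R f x g ⟨y, hy, rfl⟩
    refine ⟨y ≫ g, ?_, ?_⟩
    · exact (Category.assoc _ _ _).symm.trans (congrArg (· ≫ g) hy)
    · rw [Ext.comp_assoc_of_third_deg_zero, Ext.mk₀_comp_mk₀]
  | succ n ih =>
    rintro N R f x g ⟨y, hy, rfl⟩
    exact ⟨_, ih R.tail f y g hy, (Ext.comp_assoc_of_third_deg_zero _ _ _ _).symm⟩

/-- A class killed on `C₀` is the class of a cocycle when the terms are acyclic up to its degree. -/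
theorem exists_cocycle : ∀ (n : ℕ) {N : A} (R : Res N),
    (∀ (m k : ℕ), k < n → ∀ z : Ext.{w} (R.C (m + 1)) F (k + 1), z = 0) →
    ∀ x : Ext.{w} N F (n + 1), (Ext.mk₀ R.ε).comp x (zero_add _) = 0 →
      ∃ f : R.C (n + 1) ⟶ F, R.d (n + 1) ≫ f = 0 ∧ IsCls n R f x := by
  intro n
  induction n with
  | zero =>
    intro N R _ x hx
    obtain ⟨y, hy⟩ := Ext.contravariant_sequence_exact₃ R.seq_shortExact F x hx (n₀ := 0) (add_zero 1)
    obtain ⟨y, rfl⟩ := (Ext.mk₀_bijective (kernel R.ε) F).2 y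
    refine ⟨R.tail.ε ≫ y, ?_, y, rfl, hy⟩
    exact (Category.assoc _ _ _).symm.trans ((congrArg (· ≫ y) R.tail.d_ε).trans zero_comp)
  | succ n ih =>
    intro N R hac x hx
    obtain ⟨y, hy⟩ := Ext.contravariant_sequence_exact₃ R.seq_shortExact F x hx (n₀ := n + 1) (by omega)
    obtain ⟨f, hf, hfy⟩ := ih R.tail (fun m k hk => hac (m + 1) k (by omega)) y (hac 0 n (by omega) _)
    exact ⟨f, hf, y, hfy, hy⟩

end Groth.Agent.H15Site.CohColim
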