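import Groth.Agent.H15Site.CohColim.Isos

/-!
# Cohomology and filtered colimits from a class of quasi-compact objects
-/

set_option autoImplicit false
set_option linter.style.haveILetI false
set_option linter.unusedSectionVars false
set_option backward.isDefEq.respectTransparency false
set_option backward.isDefEq.respectTransparency.types false

universe u

open CategoryTheory CategoryTheory.Limits CategoryTheory.Abelian Opposite

namespace Groth.Agent.H15Site.CohColim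

attribute [local instance 10000] SiteInst.hasSheafifySite SiteInst.hasWeakSheafifySite SiteInst.hasExtSite

open ToposFin

variable {C : Type u} [SmallCategory C] {J : GrothendieckTopology C}

theorem epi_pullback_snd {X Y Z : Sh J} (f : X ⟶ Z) (g : Y ⟶ Z) [Epi f] : Epi (pullback.snd f g) :=
  ⟨fun a b h => ((TFin.jEpi_single f).pullback g) a b fun _ : PUnit.{1} => h⟩

theorem epi_pullback_fst {X Y Z : Sh J} (f : X ⟶ Z) (g : Y ⟶ Z) [Epi g] : Epi (pullback.fst f g) :=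
  ⟨fun a b h => ((TFin.jEpi_single g).pullback' f) a b fun _ : PUnit.{1} => h⟩

theorem epi_of_jEpi_unit {X Y : Sh J} (f : X ⟶ Y) (h : TFin.JEpi (fun _ : PUnit.{1} => f)) : Epi f :=
  ⟨fun a b e => h a b fun _ => e⟩

theorem isQC_of_isQcObject {K : Sh J} (h : CohCx.IsQcObject K) : IsQC K := by
  have key : ∀ {ι : Type u} {F : ι → Sh J} (π : ∀ i, F i ⟶ K),
      TFin.JEpi π ↔ CohCx.JointlySurjective π := fun π => by
    rw [TFin.jEpi_iff]
    exact ⟨fun hj U x => ⟨TFin.jointImage π x, hj U x, fun V g hg => hg⟩,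
      fun hj U x => by
        obtain ⟨R, hR, hR'⟩ := hj U x
        exact J.superset_covering (fun V g hg => hR' V g hg) hR⟩
  rw [TFin.isQC_iff]
  intro ι F π hπ
  obtain ⟨t, ht⟩ := h ι F π ((key π).1 hπ)
  exact ⟨t, (key (fun i : t => π i.1)).2 ht⟩

/-- The axioms on a class `S` of quasi-compact objects. -/
structure SData (S : Set (Sh J)) : Prop where
  refine' : ∀ (F K : Sh J) (g : F ⟶ K), K ∈ S → Epi g → ∃ (K' : Sh J) (k : K' ⟶ F), K' ∈ S ∧ Epi (k ≫ g)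
  prod : ∀ K ∈ S, ∀ K' ∈ S, ∃ (K'' : Sh J) (g : K'' ⟶ K ⨯ K'), K'' ∈ S ∧ Epi g
  eqz : ∀ K ∈ S, ∀ K' ∈ S, ∀ (a b : K ⟶ K'), ∃ (K'' : Sh J) (g : K'' ⟶ equalizer a b), K'' ∈ S ∧ Epi g
  qc : ∀ K ∈ S, IsQC K

variable {S : Set (Sh J)}

/-- Fibre products of members over `L` are covered by members. -/
def CovPb (S : Set (Sh J)) (L : Sh J) : Prop :=
  ∀ K ∈ S, ∀ K' ∈ S, ∀ (a : K ⟶ L) (b : K' ⟶ L), ∃ (K'' : Sh J) (g : K'' ⟶ pullback a b), K'' ∈ S ∧ Epi g

/-- The class generated by `S`. -/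
def SClass (S : Set (Sh J)) (L : Sh J) : Prop :=
  (∃ (K : Sh J) (q : K ⟶ L), K ∈ S ∧ Epi q) ∧ CovPb S L

theorem SData.covPb_mem (hS : SData S) {M : Sh J} (hM : M ∈ S) : CovPb S M := by
  intro K hK K' hK' a b
  obtain ⟨K₁, g₁, hK₁, hg₁⟩ := hS.prod K hK K' hK'
  obtain ⟨K₂, g₂, hK₂, hg₂⟩ := hS.eqz K₁ hK₁ M hM (g₁ ≫ prod.fst ≫ a) (g₁ ≫ prod.snd ≫ b)
  let e := equalizer.ι (g₁ ≫ prod.fst ≫ a) (g₁ ≫ prod.snd ≫ b)
  let m : equalizer (g₁ ≫ prod.fst ≫ a) (g₁ ≫ prod.snd ≫ b) ⟶ pullback a b :=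
    pullback.lift (e ≫ g₁ ≫ prod.fst) (e ≫ g₁ ≫ prod.snd) (by simpa [e, Category.assoc] using equalizer.condition _ _)
  haveI := hg₁
  haveI := hg₂
  let t : pullback a b ⟶ K ⨯ K' := prod.lift (pullback.fst a b) (pullback.snd a b)
  haveI := epi_pullback_snd g₁ t
  let w : pullback g₁ t ⟶ equalizer (g₁ ≫ prod.fst ≫ a) (g₁ ≫ prod.snd ≫ b) :=
    equalizer.lift (pullback.fst g₁ t) (by
      rw [pullback.condition_assoc, pullback.condition_assoc]
      simp [t, pullback.condition])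
  have hw : w ≫ m = pullback.snd g₁ t := by
    apply pullback.hom_ext
    · rw [Category.assoc, pullback.lift_fst]
      show w ≫ e ≫ g₁ ≫ prod.fst = _
      rw [equalizer.lift_ι_assoc, pullback.condition_assoc]
      simp [t]
    · rw [Category.assoc, pullback.lift_snd]
      show w ≫ e ≫ g₁ ≫ prod.snd = _
      rw [equalizer.lift_ι_assoc, pullback.condition_assoc]
      simp [t]
  haveI : Epi m := by
    haveI : Epi (w ≫ m) := by rw [hw]; infer_instance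
    exact epi_of_epi w m
  exact ⟨K₂, g₂ ≫ m, hK₂, inferInstance⟩

theorem SData.mem_class (hS : SData S) {K : Sh J} (hK : K ∈ S) : SClass S K :=
  ⟨⟨K, 𝟙 K, hK, inferInstance⟩, hS.covPb_mem hK⟩

theorem SClass.iso {K L : Sh J} (e : K ≅ L) (h : SClass S K) : SClass S L := by
  obtain ⟨⟨K₀, q, hK₀, hq⟩, hc⟩ := h
  refine ⟨⟨K₀, q ≫ e.hom, hK₀, inferInstance⟩, fun K₁ h₁ K₂ h₂ a b => ?_⟩
  obtain ⟨K'', g, hK'', hg⟩ := hc K₁ h₁ K₂ h₂ (a ≫ e.inv) (b ≫ e.inv)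
  have sq : IsPullback (pullback.fst (a ≫ e.inv) (b ≫ e.inv)) (pullback.snd (a ≫ e.inv) (b ≫ e.inv)) a b := by
    have := TFin.isPullback_comp_mono (IsPullback.of_hasPullback (a ≫ e.inv) (b ≫ e.inv)) e.hom
    simpa using this
  exact ⟨K'', g ≫ sq.isoPullback.hom, hK'', inferInstance⟩

theorem SClass.pullback (hS : SData S) {L₁ L₂ M : Sh J} (f : L₁ ⟶ M) (g : L₂ ⟶ M) (h₁ : SClass S L₁)
    (h₂ : SClass S L₂) (hM : SClass S M) : SClass S (pullback f g) := by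
  obtain ⟨⟨K₁, q₁, hK₁, hq₁⟩, hc₁⟩ := h₁
  obtain ⟨⟨K₂, q₂, hK₂, hq₂⟩, hc₂⟩ := h₂
  refine ⟨?_, ?_⟩
  · obtain ⟨K, ρ, hK, hρ⟩ := hM.2 K₁ hK₁ K₂ hK₂ (q₁ ≫ f) (q₂ ≫ g)
    haveI := hq₁
    haveI := hq₂
    haveI := hρ
    haveI : Epi (pullback.map (q₁ ≫ f) (q₂ ≫ g) f g q₁ q₂ (𝟙 M) (Category.comp_id _) (Category.comp_id _)) :=
      ⟨fun a b e => TFin.jEpi_pullbackMap (TFin.jEpi_single q₁) (TFin.jEpi_single q₂) f g a b
        fun _ : PUnit.{1} × PUnit.{1} => e⟩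
    exact ⟨K, ρ ≫ pullback.map (q₁ ≫ f) (q₂ ≫ g) f g q₁ q₂ (𝟙 M) (Category.comp_id _) (Category.comp_id _), hK,
      inferInstance⟩
  · intro K hK K' hK' a b
    let P := CategoryTheory.Limits.pullback a b
    let p : P ⟶ K := CategoryTheory.Limits.pullback.fst a b
    let p' : P ⟶ K' := CategoryTheory.Limits.pullback.snd a b
    let π₁ := CategoryTheory.Limits.pullback.fst f g
    let π₂ := CategoryTheory.Limits.pullback.snd f g
    obtain ⟨E₁, ρ₁, hE₁, hρ₁⟩ := hc₁ K hK K' hK' (a ≫ π₁) (b ≫ π₁)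
    obtain ⟨E₂, ρ₂, hE₂, hρ₂⟩ := hc₂ K hK K' hK' (a ≫ π₂) (b ≫ π₂)
    let x₁ := ρ₁ ≫ CategoryTheory.Limits.pullback.fst (a ≫ π₁) (b ≫ π₁)
    let y₁ := ρ₁ ≫ CategoryTheory.Limits.pullback.snd (a ≫ π₁) (b ≫ π₁)
    let x₂ := ρ₂ ≫ CategoryTheory.Limits.pullback.fst (a ≫ π₂) (b ≫ π₂)
    let y₂ := ρ₂ ≫ CategoryTheory.Limits.pullback.snd (a ≫ π₂) (b ≫ π₂)
    obtain ⟨E, ρ, hE, hρ⟩ := hS.covPb_mem hK E₁ hE₁ E₂ hE₂ x₁ x₂
    let r₁ := ρ ≫ CategoryTheory.Limits.pullback.fst x₁ x₂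
    let r₂ := ρ ≫ CategoryTheory.Limits.pullback.snd x₁ x₂
    obtain ⟨E', ρ', hE', hρ'⟩ := hS.eqz E hE K' hK' (r₁ ≫ y₁) (r₂ ≫ y₂)
    let e := equalizer.ι (r₁ ≫ y₁) (r₂ ≫ y₂)
    have h1 : x₁ ≫ a ≫ π₁ = y₁ ≫ b ≫ π₁ := by simp [x₁, y₁, CategoryTheory.Limits.pullback.condition]
    have h2 : x₂ ≫ a ≫ π₂ = y₂ ≫ b ≫ π₂ := by simp [x₂, y₂, CategoryTheory.Limits.pullback.condition]
    have hr : r₁ ≫ x₁ = r₂ ≫ x₂ := by simp [r₁, r₂, CategoryTheory.Limits.pullback.condition]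
    have hy : e ≫ r₁ ≫ y₁ = e ≫ r₂ ≫ y₂ := equalizer.condition _ _
    let m : equalizer (r₁ ≫ y₁) (r₂ ≫ y₂) ⟶ P :=
      CategoryTheory.Limits.pullback.lift (e ≫ r₁ ≫ x₁) (e ≫ r₁ ≫ y₁) (by
        apply CategoryTheory.Limits.pullback.hom_ext
        · simp only [Category.assoc]
          exact congrArg (fun t => e ≫ r₁ ≫ t) h1
        · simp only [Category.assoc]
          show e ≫ r₁ ≫ x₁ ≫ a ≫ π₂ = e ≫ r₁ ≫ y₁ ≫ b ≫ π₂
          rw [reassoc_of% hr, h2, reassoc_of% hy])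
    let m₁ : P ⟶ CategoryTheory.Limits.pullback (a ≫ π₁) (b ≫ π₁) :=
      CategoryTheory.Limits.pullback.lift p p' (by
        simp only [p, p', CategoryTheory.Limits.pullback.condition_assoc])
    let m₂ : P ⟶ CategoryTheory.Limits.pullback (a ≫ π₂) (b ≫ π₂) :=
      CategoryTheory.Limits.pullback.lift p p' (by
        simp only [p, p', CategoryTheory.Limits.pullback.condition_assoc])
    haveI := hρ₁
    haveI := hρ₂
    haveI := hρ
    haveI := hρ'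
    haveI := epi_pullback_snd ρ₁ m₁
    let g₁ := CategoryTheory.Limits.pullback.snd ρ₁ m₁
    haveI := epi_pullback_snd ρ₂ (g₁ ≫ m₂)
    let g₂ := CategoryTheory.Limits.pullback.snd ρ₂ (g₁ ≫ m₂)
    let e₁ := g₂ ≫ CategoryTheory.Limits.pullback.fst ρ₁ m₁
    let e₂ := CategoryTheory.Limits.pullback.fst ρ₂ (g₁ ≫ m₂)
    have e₁x : e₁ ≫ x₁ = g₂ ≫ g₁ ≫ p := by
      simp [e₁, x₁, g₁, CategoryTheory.Limits.pullback.condition_assoc, m₁]
    have e₁y : e₁ ≫ y₁ = g₂ ≫ g₁ ≫ p' := by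
      simp [e₁, y₁, g₁, CategoryTheory.Limits.pullback.condition_assoc, m₁]
    have e₂x : e₂ ≫ x₂ = g₂ ≫ g₁ ≫ p := by
      simp [e₂, x₂, g₂, CategoryTheory.Limits.pullback.condition_assoc, m₂]
    have e₂y : e₂ ≫ y₂ = g₂ ≫ g₁ ≫ p' := by
      simp [e₂, y₂, g₂, CategoryTheory.Limits.pullback.condition_assoc, m₂]
    let t := CategoryTheory.Limits.pullback.lift e₁ e₂ (e₁x.trans e₂x.symm)
    haveI := epi_pullback_snd ρ t
    let g₃ := CategoryTheory.Limits.pullback.snd ρ t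
    have f₁ : CategoryTheory.Limits.pullback.fst ρ t ≫ r₁ = g₃ ≫ e₁ := by
      simp [r₁, g₃, CategoryTheory.Limits.pullback.condition_assoc, t]
    have f₂ : CategoryTheory.Limits.pullback.fst ρ t ≫ r₂ = g₃ ≫ e₂ := by
      simp [r₂, g₃, CategoryTheory.Limits.pullback.condition_assoc, t]
    let w := equalizer.lift (f := r₁ ≫ y₁) (g := r₂ ≫ y₂) (CategoryTheory.Limits.pullback.fst ρ t)
      (by rw [reassoc_of% f₁, reassoc_of% f₂, e₁y, e₂y])
    have hw : w ≫ m = g₃ ≫ g₂ ≫ g₁ := by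
      apply CategoryTheory.Limits.pullback.hom_ext
      · simp only [Category.assoc, m, CategoryTheory.Limits.pullback.lift_fst]
        show w ≫ e ≫ r₁ ≫ x₁ = _
        rw [equalizer.lift_ι_assoc, reassoc_of% f₁, e₁x]
      · simp only [Category.assoc, m, CategoryTheory.Limits.pullback.lift_snd]
        show w ≫ e ≫ r₁ ≫ y₁ = _
        rw [equalizer.lift_ι_assoc, reassoc_of% f₁, e₁y]
    haveI : Epi m := by
      haveI : Epi (w ≫ m) := by rw [hw]; infer_instance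
      exact epi_of_epi w m
    exact ⟨E', ρ' ≫ m, hE', inferInstance⟩

theorem pullbackClosed_sClass (hS : SData S) : PullbackClosed (SClass S) where
  iso := SClass.iso
  pb f g := SClass.pullback hS f g

theorem refine_sClass (hS : SData S) (L : Sh J) (hL : SClass S L) (F : Sh J) (p : F ⟶ L) (hp : Epi p) :
    ∃ (L' : Sh J) (s : L' ⟶ F), SClass S L' ∧ Epi (s ≫ p) := by
  obtain ⟨⟨K, q, hK, hq⟩, -⟩ := hL
  haveI := hp
  haveI := hq
  obtain ⟨K', k, hK', hk⟩ := hS.refine' _ K (pullback.snd p q) hK (epi_pullback_snd p q)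
  haveI := hk
  refine ⟨K', k ≫ pullback.fst p q, hS.mem_class hK', ?_⟩
  rw [Category.assoc, pullback.condition, ← Category.assoc]
  infer_instance

theorem comm_sClass (hS : SData S) (L : Sh J) (hL : SClass S L) : Comm L := by
  classical
  intro Λ _ _ D c hc
  obtain ⟨⟨K, q, hK, hq⟩, hcov⟩ := hL
  haveI := hq
  refine ⟨fun g => ?_, fun i a b h => TFin.hom_colimit_inj (TFin.isQC_of_epi q (hS.qc K hK)) hc a b h⟩
  obtain ⟨s, hs⟩ := TFin.isQC_iff.1 (hS.qc K hK) _ _ _ ((TFin.jEpi_colimit hc).pullback (q ≫ g))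
  obtain ⟨i₀, hi₀⟩ := IsFiltered.sup_objs_exists s
  haveI hepi : Epi (pullback.snd (c.ι.app i₀) (q ≫ g)) := ⟨fun a b h => hs a b fun i => by
    let u := (hi₀ i.2).some
    have : pullback.lift (pullback.fst (c.ι.app i.1) (q ≫ g) ≫ D.map u) (pullback.snd _ _)
        (by rw [Category.assoc, c.w, pullback.condition]) ≫ pullback.snd (c.ι.app i₀) (q ≫ g) =
          pullback.snd (c.ι.app i.1) (q ≫ g) := pullback.lift_snd _ _ _
    exact (congrArg (· ≫ a) this.symm).trans ((Category.assoc _ _ _).trans ((congrArg (_ ≫ ·) h).trans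
      ((Category.assoc _ _ _).symm.trans (congrArg (· ≫ b) this))))⟩
  obtain ⟨K', k, hK', hk⟩ := hS.refine' _ K (pullback.snd (c.ι.app i₀) (q ≫ g)) hK hepi
  haveI := hk
  let q' := k ≫ pullback.snd (c.ι.app i₀) (q ≫ g) ≫ q
  haveI : Epi q' := by
    show Epi (k ≫ pullback.snd (c.ι.app i₀) (q ≫ g) ≫ q)
    rw [← Category.assoc]
    infer_instance
  let d := k ≫ pullback.fst (c.ι.app i₀) (q ≫ g)
  have hd : d ≫ c.ι.app i₀ = q' ≫ g := by
    simp only [d, q', Category.assoc, pullback.condition]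
  obtain ⟨K'', ρ, hK'', hρ⟩ := hcov K' hK' K' hK' q' q'
  obtain ⟨j, u, hu⟩ := TFin.hom_colimit_inj (hS.qc K'' hK'') hc (ρ ≫ pullback.fst q' q' ≫ d)
    (ρ ≫ pullback.snd q' q' ≫ d) (by
      simp only [Category.assoc, hd]
      rw [pullback.condition_assoc])
  haveI := hρ
  have hu' : pullback.fst q' q' ≫ d ≫ D.map u = pullback.snd q' q' ≫ d ≫ D.map u :=
    (cancel_epi ρ).1 (by simpa [Category.assoc] using hu)
  have hJ : TFin.JEpi (fun _ : PUnit.{1} => q') := fun Z x y h => (cancel_epi q').1 (h PUnit.unit)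
  obtain ⟨a, ha⟩ := hJ.exists_desc (fun _ => d ≫ D.map u) (fun _ _ => hu')
  exact ⟨j, a, (cancel_epi q').1 (by rw [reassoc_of% (ha PUnit.unit), c.w, hd])⟩

theorem sClass_terminal (hS : SData S) (h1 : ∃ K ∈ S, Epi (terminal.from K)) : SClass S (⊤_ (Sh J)) := by
  obtain ⟨K, hK, hK'⟩ := h1
  refine ⟨⟨K, _, hK, hK'⟩, fun A hA B hB a b => ?_⟩
  obtain ⟨K'', g, hK'', hg⟩ := hS.prod A hA B hB
  haveI := hg
  let e : A ⨯ B ≅ pullback a b :=
    { hom := pullback.lift prod.fst prod.snd (terminal.hom_ext _ _)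
      inv := prod.lift (pullback.fst a b) (pullback.snd a b)
      hom_inv_id := by apply prod.hom_ext <;> simp
      inv_hom_id := by apply pullback.hom_ext <;> simp }
  haveI := Iso.isIso_hom e
  haveI : Epi e.hom := IsIso.epi_of_iso _
  exact ⟨K'', g ≫ e.hom, hK'', epi_comp _ _⟩

theorem both_sClass (hS : SData S) (L : Sh J) (hL : SClass S L) (q : ℕ) : Both ((freeAb J).obj L) q :=
  both_HK (pullbackClosed_sClass hS) (refine_sClass hS) (comm_sClass hS) L hL q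

theorem both_functorH_sClass (hS : SData S) (h1 : ∃ K ∈ S, Epi (terminal.from K)) (q : ℕ) :
    Both ((constantSheaf J AddCommGrpCat.{u}).obj (AddCommGrpCat.of (ULift.{u} ℤ))) q :=
  Both.of_iso (both_sClass hS _ (sClass_terminal hS h1) q) (freeTerminalIso J)

end Groth.Agent.H15Site.CohColim
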