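import Groth.Agent.H15Site.CohColim.Classes
import Groth.Agent.H15Site.CoprodVK

/-!
# Čech nerves of finite families and their decomposition into coproducts
-/

set_option autoImplicit false
set_option linter.style.haveILetI false
set_option linter.unusedSectionVars false
set_option backward.isDefEq.respectTransparency false
set_option backward.isDefEq.respectTransparency.types false

universe u

open CategoryTheory CategoryTheory.Limits CategoryTheory.Abelian Opposite
open scoped Simplicial

namespace Groth.Agent.H15Site.CohColim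

attribute [local instance 10000] SiteInst.hasSheafifySite SiteInst.hasWeakSheafifySite SiteInst.hasExtSite

open ToposFin

variable {C : Type u} [SmallCategory C] {J : GrothendieckTopology C}

/-- Pulling a coproduct back piece by piece. -/
theorem isColimit_of_isPullback {κ : Type u} {X : κ → Sh J} {c : Cofan X} (hc : IsColimit c) {Z : Sh J}
    (g : Z ⟶ c.pt) {P : κ → Sh J} (h : ∀ i, P i ⟶ Z) (p : ∀ i, P i ⟶ X i)
    (sq : ∀ i, IsPullback (h i) (p i) g (c.inj i)) : Nonempty (IsColimit (Cofan.mk Z h)) := by
  refine ((CoprodVK.sheaf c hc) (F' := Discrete.functor P) (Cofan.mk Z h)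
    (Discrete.natTrans fun i => p i.as) g ?_ (NatTrans.equifibered_of_discrete _)).2 fun j => sq j.as
  refine NatTrans.ext (funext fun j => ?_)
  exact (sq j.as).w.symm

/-- Composite of two levels of coproduct decompositions. -/
noncomputable def isColimitComp {κ : Type u} {ι : κ → Type u} {X : κ → Sh J} {Z : Sh J} {a : ∀ i, X i ⟶ Z}
    (ha : IsColimit (Cofan.mk Z a)) {Y : ∀ i, ι i → Sh J} {b : ∀ i j, Y i j ⟶ X i}
    (hb : ∀ i, IsColimit (Cofan.mk (X i) (b i))) :
    IsColimit (Cofan.mk Z fun p : Σ i, ι i => b p.1 p.2 ≫ a p.1) :=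
  mkCofanColimit _ (fun s => Cofan.IsColimit.desc ha fun i => Cofan.IsColimit.desc (hb i) fun j => s.inj ⟨i, j⟩)
    (fun s p => by
      show (b p.1 p.2 ≫ a p.1) ≫ _ = _
      rw [Category.assoc]
      have h1 : a p.1 ≫ Cofan.IsColimit.desc ha (fun i => Cofan.IsColimit.desc (hb i) fun j => s.inj ⟨i, j⟩) =
          Cofan.IsColimit.desc (hb p.1) fun j => s.inj ⟨p.1, j⟩ := Cofan.IsColimit.fac ha _ p.1
      rw [h1]
      exact Cofan.IsColimit.fac (hb p.1) _ p.2)
    (fun s m hm => Cofan.IsColimit.hom_ext ha _ _ fun i => by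
      rw [Cofan.IsColimit.fac]
      exact Cofan.IsColimit.hom_ext (hb i) _ _ fun j => by
        rw [Cofan.IsColimit.fac]
        exact (Category.assoc _ _ _).symm.trans (hm ⟨i, j⟩))

variable {κ : Type u} {F : κ → Sh J} {L : Sh J} (π : ∀ k, F k ⟶ L)

/-- The fibre product of a tuple of members of the family. -/
noncomputable abbrev piece {n : ℕ} (a : Fin (n + 1) → κ) : Sh J :=
  widePullback L (fun k => F (a k)) (fun k => π (a k))

/-- Its structure map. -/
noncomputable abbrev pieceBase {n : ℕ} (a : Fin (n + 1) → κ) : piece π a ⟶ L :=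
  WidePullback.base fun k => π (a k)

/-- Splitting the first factor off. -/
noncomputable def pieceSplit {n : ℕ} (a : Fin (n + 1 + 1) → κ) :
    piece π a ≅ pullback (π (a 0)) (pieceBase π fun k => a k.succ) where
  hom := pullback.lift (WidePullback.π _ 0)
    (WidePullback.lift (WidePullback.base _) (fun i => WidePullback.π _ i.succ) (fun i => WidePullback.π_arrow _ _))
    (by rw [WidePullback.lift_base, WidePullback.π_arrow])
  inv := WidePullback.lift (pullback.fst _ _ ≫ π (a 0))
    (Fin.cases (motive := fun i => pullback (π (a 0)) (pieceBase π fun k => a k.succ) ⟶ F (a i))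
      (pullback.fst _ _) fun i => pullback.snd _ _ ≫ WidePullback.π _ i) (by
      intro i
      cases i using Fin.cases with
      | zero => simp only [Fin.cases_zero]
      | succ i =>
        simp only [Fin.cases_succ, Category.assoc, WidePullback.π_arrow]
        exact pullback.condition.symm)
  hom_inv_id := by
    refine WidePullback.hom_ext _ _ _ (fun i => ?_) ?_
    · rw [Category.assoc, WidePullback.lift_π, Category.id_comp]
      cases i using Fin.cases with
      | zero => simp
      | succ i => simp
    · simp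
  inv_hom_id := by
    apply pullback.hom_ext
    · simp
    · refine WidePullback.hom_ext _ _ _ (fun i => ?_) ?_
      · simp
      · simp [pullback.condition]

/-- The single factor. -/
noncomputable def pieceZero (a : Fin 1 → κ) : piece π a ≅ F (a 0) where
  hom := WidePullback.π _ 0
  inv := WidePullback.lift (π (a 0))
    (Fin.cases (motive := fun i => F (a 0) ⟶ F (a i)) (𝟙 _) fun i => i.elim0) (by
      intro i
      cases i using Fin.cases with
      | zero => simp only [Fin.cases_zero, Category.id_comp]
      | succ i => exact i.elim0)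
  hom_inv_id := by
    refine WidePullback.hom_ext _ _ _ (fun i => ?_) ?_
    · cases i using Fin.cases with
      | zero => simp
      | succ i => exact i.elim0
    · simp
  inv_hom_id := by simp

variable {c : Cofan F} (hc : IsColimit c) (f : c.pt ⟶ L) (hf : ∀ k, c.inj k ≫ f = π k)

include hc hf in
/-- The powers of a coproduct over `L` are coproducts of fibre products of the summands. -/
theorem exists_decomp : ∀ n : ℕ, ∃ (h : ∀ a : Fin (n + 1) → κ, piece π a ⟶
      widePullback L (fun _ : Fin (n + 1) => c.pt) fun _ => f),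
    Nonempty (IsColimit (Cofan.mk _ h)) ∧ ∀ a, h a ≫ WidePullback.base (fun _ : Fin (n + 1) => f) = pieceBase π a := by
  intro n
  induction n with
  | zero =>
    refine ⟨fun a => WidePullback.lift (pieceBase π a) (fun _ => WidePullback.π _ 0 ≫ c.inj (a 0))
      (fun _ => by rw [Category.assoc, hf, WidePullback.π_arrow]), ?_, fun a => WidePullback.lift_base _ _ _ _⟩
    refine isColimit_of_isPullback (X := fun a : Fin 1 → κ => F (a 0))
      (c := Cofan.mk c.pt fun a : Fin 1 → κ => c.inj (a 0)) ?_ (WidePullback.π (fun _ : Fin 1 => f) 0)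
      _ (fun a => (pieceZero π a).hom) fun a => ?_
    · exact mkCofanColimit _ (fun s => Cofan.IsColimit.desc hc fun k => s.inj fun _ => k)
        (fun s a => by
          have : (fun _ => a 0) = a := funext fun i => congrArg a (Fin.fin_one_eq_zero i).symm
          show c.inj (a 0) ≫ _ = _
          rw [Cofan.IsColimit.fac]
          exact congr_arg_heq (fun b => s.inj b) this |> fun e => by
            obtain ⟨k, rfl⟩ : ∃ k, a = fun _ => k := ⟨a 0, this.symm⟩
            rfl)
        (fun s m hm => Cofan.IsColimit.hom_ext hc _ _ fun k => by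
          rw [Cofan.IsColimit.fac]
          exact hm fun _ => k)
    · haveI : IsIso (WidePullback.π (fun _ : Fin 1 => f) 0) := by
        refine ⟨WidePullback.lift f (fun _ => 𝟙 _) (fun _ => Category.id_comp f), ?_, WidePullback.lift_π _ _ _ _ _⟩
        refine WidePullback.hom_ext _ _ _ (fun i => ?_) ?_
        · rw [Category.assoc, WidePullback.lift_π, Category.comp_id, Category.id_comp, (Fin.fin_one_eq_zero i : i = 0)]
        · rw [Category.assoc, WidePullback.lift_base, WidePullback.π_arrow, Category.id_comp]
      refine IsPullback.of_vert_isIso_mono ⟨?_⟩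
      simp [pieceZero]
  | succ n ih =>
    obtain ⟨h, ⟨hh⟩, hb⟩ := ih
    let W := widePullback L (fun _ : Fin (n + 1) => c.pt) fun _ => f
    let b : W ⟶ L := WidePullback.base fun _ => f
    let Z := pullback f b
    -- decompose along the first factor
    let P₁ : κ → Sh J := fun k => pullback (π k) b
    let m₁ : ∀ k, P₁ k ⟶ Z := fun k =>
      pullback.map (π k) b f b (c.inj k) (𝟙 _) (𝟙 _) (by rw [Category.comp_id, hf]) (by simp)
    have sq₁ : ∀ k, IsPullback (m₁ k) (pullback.fst (π k) b) (pullback.fst f b) (c.inj k) := fun k => by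
      refine IsPullback.of_right (h₁₂ := pullback.snd f b) (v₁₃ := b) (h₂₂ := f) ?_ (pullback.lift_fst _ _ _)
        (IsPullback.of_hasPullback f b).flip
      simpa [m₁, hf] using (IsPullback.of_hasPullback (π k) b).flip
    obtain ⟨hd₁⟩ := isColimit_of_isPullback hc (pullback.fst f b) m₁ _ sq₁
    -- decompose each piece along the rest
    let P₂ : ∀ k, (Fin (n + 1) → κ) → Sh J := fun k a => pullback (π k) (pieceBase π a)
    let m₂ : ∀ k a, P₂ k a ⟶ P₁ k := fun k a =>
      pullback.map (π k) (pieceBase π a) (π k) b (𝟙 _) (h a) (𝟙 _) (by simp) (by rw [Category.comp_id, hb])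
    have sq₂ : ∀ k a, IsPullback (m₂ k a) (pullback.snd (π k) (pieceBase π a)) (pullback.snd (π k) b) (h a) :=
      fun k a => by
      refine IsPullback.of_right (h₁₂ := pullback.fst (π k) b) (v₁₃ := π k) (h₂₂ := b) ?_ (pullback.lift_snd _ _ _)
        (IsPullback.of_hasPullback (π k) b)
      simpa [m₂, hb, b] using IsPullback.of_hasPullback (π k) (pieceBase π a)
    have hd₂ : ∀ k, IsColimit (Cofan.mk (P₁ k) (m₂ k)) := fun k =>
      (isColimit_of_isPullback hh (pullback.snd (π k) b) (m₂ k) _ (sq₂ k)).some
    have hd := isColimitComp hd₁ hd₂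
    let e := wideSplit f n
    let H : ∀ a : Fin (n + 1 + 1) → κ, piece π a ⟶ widePullback L (fun _ : Fin (n + 1 + 1) => c.pt) fun _ => f :=
      fun a => (pieceSplit π a).hom ≫ (m₂ (a 0) fun i => a i.succ) ≫ m₁ (a 0) ≫ e.inv
    refine ⟨H, ⟨mkCofanColimit _
      (fun s => e.hom ≫ Cofan.IsColimit.desc hd fun p =>
        (show pullback (π p.1) (pieceBase π p.2) ⟶ piece π (Fin.cons p.1 p.2) from
          (pieceSplit π (Fin.cons p.1 p.2)).inv) ≫ s.inj (Fin.cons p.1 p.2)) ?_ ?_⟩, fun a => ?_⟩
    · intro s a
      show ((pieceSplit π a).hom ≫ (m₂ (a 0) fun i => a i.succ) ≫ m₁ (a 0) ≫ e.inv) ≫ e.hom ≫ _ = _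
      simp only [Category.assoc, Iso.inv_hom_id_assoc]
      have hfac := Cofan.IsColimit.fac hd (fun p =>
        (show pullback (π p.1) (pieceBase π p.2) ⟶ piece π (Fin.cons p.1 p.2) from
          (pieceSplit π (Fin.cons p.1 p.2)).inv) ≫ s.inj (Fin.cons p.1 p.2)) ⟨a 0, fun i => a i.succ⟩
      obtain ⟨k, a', rfl⟩ : ∃ k a', a = Fin.cons k a' := ⟨a 0, Fin.tail a, (Fin.cons_self_tail a).symm⟩
      refine (congrArg ((pieceSplit π (Fin.cons k a')).hom ≫ ·)
        ((Category.assoc _ _ _).symm.trans hfac)).trans ?_
      exact Iso.hom_inv_id_assoc _ _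
    · intro s m hm
      rw [← cancel_epi e.inv, Iso.inv_hom_id_assoc]
      refine Cofan.IsColimit.hom_ext hd _ _ fun p => ?_
      rw [Cofan.IsColimit.fac]
      have := hm (Fin.cons p.1 p.2)
      rw [← this]
      show (m₂ p.1 p.2 ≫ m₁ p.1) ≫ e.inv ≫ m = _
      simp only [H, Category.assoc]
      exact (Iso.inv_hom_id_assoc _ _).symm
    · show ((pieceSplit π a).hom ≫ (m₂ (a 0) fun i => a i.succ) ≫ m₁ (a 0) ≫ e.inv) ≫ _ = _
      have e1 : e.inv ≫ WidePullback.base (fun _ : Fin (n + 1 + 1) => f) = pullback.fst f b ≫ f :=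
        WidePullback.lift_base _ _ _ _
      have e2 : m₁ (a 0) ≫ pullback.fst f b = pullback.fst (π (a 0)) b ≫ c.inj (a 0) := pullback.lift_fst _ _ _
      have e3 : (m₂ (a 0) fun i => a i.succ) ≫ pullback.fst (π (a 0)) b =
          pullback.fst (π (a 0)) (pieceBase π fun i => a i.succ) := (pullback.lift_fst _ _ _).trans (Category.comp_id _)
      have e4 : (pieceSplit π a).hom ≫ pullback.fst (π (a 0)) (pieceBase π fun i => a i.succ) =
          WidePullback.π (fun k => π (a k)) 0 := pullback.lift_fst _ _ _
      simp only [Category.assoc, e1]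
      rw [reassoc_of% e2, reassoc_of% e3, reassoc_of% e4, hf, WidePullback.π_arrow]

end Groth.Agent.H15Site.CohColim
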